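import Cfsg.Agent.Mrg.Omega.NO1.Beta.Meet
import Cfsg.Agent.Mrg.Omega.Transv.Basic
import Cfsg.Agent.Mrg.Omega.NO1.Tens.Loc
import Cfsg.Agent.Mrg.Omega.NO1.Tens.Basic
import Cfsg.Agent.Mrg.Omega.NO1.Types

-- merged: Cfsg.Agent.Mrg.Omega.NO1.Beta.Apply
section

/-!
# THEOREM BETA, part F: the application

`Sy d O S Z` : `d` coordinates on `V = O₄⁻(q)`, `S ≤ M` a Sylow 2-subgroup, `Z = Ω₁(Z(S)) ≤ V`, the relevant local
subgroups are of characteristic 2, `V ≰ O₂(C(Z))`.  Then (`Sy.main`) after moving the coordinates, `S` fixes `R₀`,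
`Z ≤ R₀` and `Hyp d O` holds: `V ≰ O₂(N(R₀))`.
-/

set_option autoImplicit false
set_option linter.unusedVariables false
set_option linter.unusedSectionVars false

open Subgroup
open scoped Pointwise

namespace Cfsg.Agent.Omega.NO1.Beta.Inst

open Co (u l h w u_zero u_mul u_inv one_ne_u act_one act_one_iff)

variable {G : Type*} [Group G]

section sylow

variable [Finite G] (S : Sylow 2 G)

/-- 2-elements of `L ≥ S` are conjugate into `S`. -/
theorem exists_conj_mem {L : Subgroup G} (hS : (S : Subgroup G) ≤ L) {g : G} (hg : g ∈ L) {n : ℕ}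
    (hn : g ^ 2 ^ n = 1) : ∃ l ∈ L, l * g * l⁻¹ ∈ (S : Subgroup G) := by
  have : Fact (Nat.Prime 2) := ⟨Nat.prime_two⟩
  let g' : L := ⟨g, hg⟩
  have h1 : IsPGroup 2 (zpowers g') := by
    rw [IsPGroup.iff_card]
    have h2 : orderOf g' ∣ 2 ^ n := orderOf_dvd_of_pow_eq_one (Subtype.ext (by simpa using hn))
    obtain ⟨k, -, hk⟩ := (Nat.dvd_prime_pow Nat.prime_two).mp h2
    exact ⟨k, by rw [Nat.card_zpowers, hk]⟩
  obtain ⟨P, hP⟩ := h1.exists_le_sylow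
  obtain ⟨l, hl⟩ := MulAction.exists_smul_eq L P (S.subtype hS)
  refine ⟨l, l.2, ?_⟩
  have h3 : l * g' * l⁻¹ ∈ ((l • P : Sylow 2 L) : Subgroup L) := by
    rw [Sylow.coe_subgroup_smul]
    exact Subgroup.smul_mem_pointwise_smul g' (MulAut.conj l) _ (hP (mem_zpowers g'))
  rw [hl] at h3
  exact h3

/-- a normal 2-subgroup of `L ≥ S` lies in `S` -/
theorem le_sylow {L N : Subgroup G} (hS : (S : Subgroup G) ≤ L) (hN : IsPGroup 2 N)
    (hn : ∀ c ∈ L, ∀ y ∈ N, c * y * c⁻¹ ∈ N) : N ≤ S := by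
  have h1 : (S : Subgroup G) ≤ normalizer (N : Set G) := by
    intro s hs
    rw [mem_normalizer_iff]
    intro y
    refine ⟨fun hy => hn s (hS hs) y hy, fun hy => ?_⟩
    have := hn s⁻¹ (inv_mem (hS hs)) _ hy
    have e : s⁻¹ * (s * y * s⁻¹) * s⁻¹⁻¹ = y := by group
    rwa [e] at this
  have h2 : IsPGroup 2 ↥((S : Subgroup G) ⊔ N) := S.isPGroup'.to_sup_of_normal_right' hN h1
  have h3 := S.is_maximal' h2 le_sup_left
  calc N ≤ (S : Subgroup G) ⊔ N := le_sup_right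
    _ = S := h3

end sylow

variable {K : Type*} [Field K] {σ : K ≃+* K} {M V : Subgroup G} [CharP K 2]

/-! ### the number of points is odd -/

theorem two_dvd_card [Finite K] : 2 ∣ Nat.card K := by
  have h1 : addOrderOf (1 : K) = 2 := CharP.eq K (by
    have := CharP.addOrderOf_one K
    infer_instance) inferInstance
  rw [← h1]
  exact addOrderOf_dvd_natCard 1

theorem card_Pt_eq [Finite G] [Finite K] (d : Co K σ M V) : Nat.card (Pt d) = Nat.card K + 1 := by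
  classical
  apply le_antisymm _ (Hyp.card_Pt d)
  choose k hk hka using fun a : K => d.exists_act (u a)
  obtain ⟨m, hm, hmR⟩ := Co.Roo_eq d
  let f : Option K → Pt d := fun o => match o with
    | none => ⟨d.R0, 1, M.one_mem, by rw [cj_one]⟩
    | some a => ⟨cj (k a) d.Roo, k a * m, M.mul_mem (hk a) hm, by rw [cj_mul, hmR]⟩
  have hf : Function.Surjective f := by
    rintro ⟨R, g, hg, rfl⟩
    by_cases h0 : cj g d.R0 = d.R0
    · exact ⟨none, Subtype.ext h0.symm⟩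
    · obtain ⟨κ, hκ⟩ := d.two_trans hg h0
      exact ⟨some κ, Subtype.ext (hκ _ (hk κ) (hka κ)).symm⟩
  have h1 := Nat.card_le_card_of_surjective f hf
  rwa [Finite.card_option] at h1

/-- the action of `S ≤ M` on the points -/
@[instance_reducible] def actPt (d : Co K σ M V) {S : Subgroup G} (hS : S ≤ M) : MulAction S (Pt d) where
  smul s i := ⟨cj (s : G) i.1, by
    obtain ⟨g, hg, he⟩ := i.2
    exact ⟨s * g, M.mul_mem (hS s.2) hg, by rw [cj_mul, he]⟩⟩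
  one_smul i := Subtype.ext (cj_one _)
  mul_smul s t i := Subtype.ext (cj_mul _ _ _)

/-- `S` fixes a point -/
theorem exists_fixed_pt [Finite G] [Finite K] (d : Co K σ M V) {S : Subgroup G} (hS : S ≤ M)
    (h2 : IsPGroup 2 S) : ∃ (g : G) (hg : g ∈ M), ∀ s ∈ S, cj s (d.mv g hg).R0 = (d.mv g hg).R0 := by
  have : Fact (Nat.Prime 2) := ⟨Nat.prime_two⟩
  let _ := actPt d hS
  have h1 : ¬ 2 ∣ Nat.card (Pt d) := by
    rw [card_Pt_eq]
    have := two_dvd_card (K := K)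
    omega
  obtain ⟨i, hi⟩ := h2.nonempty_fixed_point_of_prime_not_dvd_card (Pt d) h1
  obtain ⟨g, hg, he⟩ := i.2
  refine ⟨g, hg, fun s hs => ?_⟩
  rw [d.mv_R0 hg, ← he]
  have h3 := hi ⟨s, hs⟩
  exact congrArg Subtype.val h3

/-! ### `S` covers `U₀` -/

/-- the elements inducing elements of `U₀` -/
def Wg (d : Co K σ M V) : Subgroup G where
  carrier := {g | g ∈ M ∧ ∃ a, d.Act g (u a).1}
  one_mem' := ⟨M.one_mem, 0, by rw [u_zero]; exact act_one⟩
  mul_mem' := by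
    rintro y y' ⟨hy, a, hya⟩ ⟨hy', b, hyb⟩
    exact ⟨M.mul_mem hy hy', a + b, by rw [← u_mul]; exact hya.mulS hyb hy'⟩
  inv_mem' := by
    rintro y ⟨hy, a, hya⟩
    exact ⟨M.inv_mem hy, a, by rw [← u_inv]; exact hya.inv hy⟩

/-- the stabiliser of `R₀` in `M` normalises `Wg` -/
theorem norm_Wg [Finite G] (d : Co K σ M V) {s g : G} (hs : s ∈ M) (hsR : cj s d.R0 = d.R0) (hg : g ∈ Wg d) :
    s * g * s⁻¹ ∈ Wg d := by
  obtain ⟨hgM, a, ha⟩ := hg
  have hM : s * g * s⁻¹ ∈ M := M.mul_mem (M.mul_mem hs hgM) (M.inv_mem hs)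
  obtain ⟨B, hB⟩ := d.conj_act hs hgM ha
  refine ⟨hM, ?_⟩
  -- `B² = 1`
  have h2 : d.Act (g * g) (1 : Matrix.SpecialLinearGroup (Fin 2) K).1 := by
    have := ha.mulS ha hgM
    rwa [u_mul, CharTwo.add_self_eq_zero, u_zero] at this
  have h3 : g * g ∈ centralizer (V : Set G) := (act_one_iff (M.mul_mem hgM hgM)).mp h2
  have h4 := d.cen_conj hs h3
  have hM2 : s * (g * g) * s⁻¹ ∈ M := M.mul_mem (M.mul_mem hs (M.mul_mem hgM hgM)) (M.inv_mem hs)
  have h5 : d.Act (s * (g * g) * s⁻¹) (1 : Matrix.SpecialLinearGroup (Fin 2) K).1 :=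
    (act_one_iff hM2).mpr h4
  have h6 := hB.mulS hB hM
  have e : s * g * s⁻¹ * (s * g * s⁻¹) = s * (g * g) * s⁻¹ := by group
  rw [e] at h6
  have h7 : B * B = 1 := d.act_faithful h6 h5 hM2
  -- `B` fixes `R₀`
  have h8 : B.1 1 0 = 0 := by
    obtain ⟨v, hv, x1, y1, z1⟩ := d.exists_v 1 0 0 (map_one σ) (map_zero σ)
    have f1 : v ∈ d.R0 := ⟨hv, y1, z1⟩
    have f2 : s * g * s⁻¹ * v * (s * g * s⁻¹)⁻¹ ∈ d.R0 := by
      have g1 : s⁻¹ * v * s ∈ d.R0 := by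
        rw [← mem_cj, hsR]; exact f1
      have g2 := d.fix_of_mem_R0 g1 hgM ha
      have e : s * g * s⁻¹ * v * (s * g * s⁻¹)⁻¹ = s * (g * (s⁻¹ * v * s) * g⁻¹) * s⁻¹ := by group
      rw [e, g2]
      have e2 : s * (s⁻¹ * v * s) * s⁻¹ = v := by group
      rw [e2]; exact f1
    have f3 := hB.Z hv
    rw [f2.2.2, x1, y1, z1] at f3
    simp only [map_zero, mul_zero, mul_one, add_zero, zero_mul] at f3
    rcases mul_eq_zero.mp f3.symm with h | h
    · exact h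
    · exact (map_eq_zero σ).mp h
  by_cases hB1 : B = 1
  · exact ⟨0, by rw [u_zero, ← hB1]; exact hB⟩
  · rcases Co.invol_cases B h7 hB1 with ⟨b, hb, rfl⟩ | ⟨κ, b, hb, hBe⟩
    · exact ⟨b, hB⟩
    · exfalso
      have h9 := h8
      rw [hBe] at h9
      have e1 : (u κ * w : Matrix.SpecialLinearGroup (Fin 2) K)⁻¹ = w * u κ := by
        rw [inv_eq_iff_mul_eq_one]
        apply Subtype.ext
        simp only [Matrix.SpecialLinearGroup.coe_mul, Matrix.SpecialLinearGroup.coe_one]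
        ext i j
        fin_cases i <;> fin_cases j <;>
          simp [u, w, Matrix.mul_apply, Fin.sum_univ_two, CharTwo.add_self_eq_zero]
      rw [e1] at h9
      simp only [Matrix.SpecialLinearGroup.coe_mul] at h9
      simp [u, w, Matrix.mul_apply, Fin.sum_univ_two] at h9
      exact hb h9

/-- **`S` covers `U₀`** -/
theorem cover_S [Finite G] (d : Co K σ M V) (S : Sylow 2 G) (hS : (S : Subgroup G) ≤ M)
    (hR : ∀ s ∈ (S : Subgroup G), cj s d.R0 = d.R0) (a : K) :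
    ∃ s ∈ (S : Subgroup G), d.Act s (u a).1 := by
  obtain ⟨g, hg, hga⟩ := d.exists_act (u a)
  -- a 2-element
  obtain ⟨m, n, hm, hmn⟩ : ∃ m n : ℕ, Odd m ∧ (g ^ m) ^ 2 ^ n = 1 := by
    have h0 : orderOf g ≠ 0 := (orderOf_pos g).ne'
    obtain ⟨n, m, hm, he⟩ := Nat.exists_eq_two_pow_mul_odd h0
    refine ⟨m, n, hm, ?_⟩
    rw [← pow_mul, mul_comm m, ← he]
    exact pow_orderOf_eq_one g
  have hpow : ∀ k : ℕ, (u a : Matrix.SpecialLinearGroup (Fin 2) K) ^ (2 * k) = 1 := by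
    intro k
    rw [pow_mul, pow_two, u_mul, CharTwo.add_self_eq_zero, u_zero, one_pow]
  have h1 : d.Act (g ^ m) (u a).1 := by
    obtain ⟨k, rfl⟩ := hm
    have := hga.pow hg (2 * k + 1)
    rwa [pow_succ (u a), hpow k, one_mul] at this
  have h1M : g ^ m ∈ M := M.pow_mem hg m
  have h1W : g ^ m ∈ Wg d := ⟨h1M, a, h1⟩
  have hSW : (S : Subgroup G) ≤ normalizer (Wg d : Set G) := by
    intro s hs
    rw [mem_normalizer_iff]
    intro y
    refine ⟨fun hy => norm_Wg d (hS hs) (hR s hs) hy, fun hy => ?_⟩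
    have := norm_Wg d (inv_mem (hS hs)) (hR s⁻¹ (inv_mem hs)) hy
    have e : s⁻¹ * (s * y * s⁻¹) * s⁻¹⁻¹ = y := by group
    rwa [e] at this
  obtain ⟨l, hl, hlS⟩ := exists_conj_mem S (L := (S : Subgroup G) ⊔ Wg d) le_sup_left
    (mem_sup_right h1W) hmn
  rw [← SetLike.mem_coe, Subgroup.coe_mul_of_left_le_normalizer_right _ _ hSW, Set.mem_mul] at hl
  obtain ⟨s, hs, x, hx, rfl⟩ := hl
  obtain ⟨hxM, b, hxb⟩ := hx
  have h2 : x * g ^ m * x⁻¹ ∈ (S : Subgroup G) := by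
    have h3 := (S : Subgroup G).mul_mem ((S : Subgroup G).mul_mem ((S : Subgroup G).inv_mem hs) hlS) hs
    have e : s⁻¹ * (s * x * g ^ m * (s * x)⁻¹) * s = x * g ^ m * x⁻¹ := by group
    rwa [e] at h3
  refine ⟨_, h2, ?_⟩
  have h4 := (hxb.mulS h1 h1M).mulS (hxb.inv hxM) (M.inv_mem hxM)
  rw [u_inv, u_mul, u_mul] at h4
  have e : b + a + b = a := by
    have := CharTwo.add_self_eq_zero b
    linear_combination this
  rwa [e] at h4

/-! ### the application -/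

/-- The hypotheses of the application: `O H = O₂(H)`, `Z = Ω₁(Z(S)) ≤ V`. -/
structure Sy (d : Co K σ M V) (O : Subgroup G → Subgroup G) (S Z : Subgroup G) : Prop where
  isO : IsO O
  C_M : centralizer (V : Set G) ≤ M
  S_M : S ≤ M
  Z_V : Z ≤ V
  Z_S : ∀ z ∈ Z, ∀ s ∈ S, z * s = s * z
  Z_max : ∀ x ∈ S, x * x = 1 → (∀ s ∈ S, x * s = s * x) → x ∈ Z
  char2N : ∀ R : Subgroup G, R ≠ ⊥ → R ≤ V → S ≤ normalizer (R : Set G) →
    ∀ x ∈ normalizer (R : Set G), (∀ y ∈ O (normalizer (R : Set G)), x * y = y * x) →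
      x ∈ O (normalizer (R : Set G))
  char2C : ∀ x ∈ centralizer (Z : Set G), (∀ y ∈ O (centralizer (Z : Set G)), x * y = y * x) →
    x ∈ O (centralizer (Z : Set G))
  V_Qt : ¬ V ≤ O (centralizer (Z : Set G))

namespace Sy

variable {d : Co K σ M V} {O : Subgroup G → Subgroup G} {S : Sylow 2 G} {Z : Subgroup G}

theorem mv (H : Sy d O S Z) {g : G} (hg : g ∈ M) : Sy (d.mv g hg) O S Z :=
  ⟨H.isO, H.C_M, H.S_M, H.Z_V, H.Z_S, H.Z_max, H.char2N, H.char2C, H.V_Qt⟩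

/-- `N ∩ V = 1` implies `N = 1` for normal 2-subgroups `N` of `M` -/
theorem meet [Finite G] (H : Sy d O S Z) (N : Subgroup G) (hN : IsPGroup 2 N) (hNM : N ≤ M)
    (hn : ∀ m ∈ M, ∀ y ∈ N, m * y * m⁻¹ ∈ N) (hNV : N ⊓ V = ⊥) : N = ⊥ := by
  have : Fact (Nat.Prime 2) := ⟨Nat.prime_two⟩
  have hNS : N ≤ S := le_sylow S H.S_M hN hn
  by_contra hne
  obtain ⟨n0, hn0, hn1⟩ : ∃ n ∈ N, n ≠ 1 := by
    by_contra hcon
    push Not at hcon
    exact hne ((eq_bot_iff_forall _).2 hcon)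
  obtain ⟨n, hnN, hn1, hnc⟩ := GTwoFour.Tools.exists_fixed_mod (Y := (S : Subgroup G)) (N := N)
    (M := ⊥) S.isPGroup' hNS (fun y hy n hn' => hn y (H.S_M hy) n hn')
    (fun y hy m hm => by rw [mem_bot] at hm ⊢; rw [hm]; group) ⟨n0, hn0, hn1⟩
  have hcen : ∀ s ∈ (S : Subgroup G), n * s = s * n := by
    intro s hs
    have h1 := hnc s hs
    rw [mem_bot, commutatorElement_eq_one_iff_mul_comm] at h1
    exact h1.symm
  -- a power of `n` is an involution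
  have hne1 : n ≠ 1 := fun h0 => hn1 (by rw [h0]; exact Subgroup.one_mem _)
  obtain ⟨k, hk⟩ := hN ⟨n, hnN⟩
  have hk' : n ^ 2 ^ k = 1 := by simpa using congrArg Subtype.val hk
  have hex : ∃ k, n ^ 2 ^ k = 1 := ⟨k, hk'⟩
  classical
  have hf := Nat.find_spec hex
  set j := Nat.find hex with hj
  have hj0 : j ≠ 0 := by
    intro h0
    rw [h0, pow_zero, pow_one] at hf
    exact hne1 hf
  obtain ⟨i, hi⟩ := Nat.exists_eq_succ_of_ne_zero hj0
  have hlt : n ^ 2 ^ i ≠ 1 := Nat.find_min hex (by omega)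
  have hz : n ^ 2 ^ i ∈ Z := by
    apply H.Z_max _ (hNS (N.pow_mem hnN _))
    · rw [← pow_add, ← two_mul, ← pow_succ', ← Nat.succ_eq_add_one, ← hi]
      exact hf
    · intro s hs
      exact (Commute.pow_left (hcen s hs) _)
  apply hlt
  have : n ^ 2 ^ i ∈ N ⊓ V := mem_inf.mpr ⟨N.pow_mem hnN _, H.Z_V hz⟩
  rw [hNV, mem_bot] at this
  exact this

/-- `Z ≤ R₀` if `S` fixes `R₀` -/
theorem Z_R0 [Finite G] (H : Sy d O S Z) (hR : ∀ s ∈ (S : Subgroup G), cj s d.R0 = d.R0) : Z ≤ d.R0 := by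
  intro z hz
  apply d.mem_R0_of_fix (H.Z_V hz)
  intro a ha g hg hga
  obtain ⟨s, hs, hsa⟩ := cover_S d S H.S_M hR a
  rw [hga.eq hsa hg (H.S_M hs) (H.Z_V hz), ← H.Z_S z hz s hs, mul_inv_cancel_right]

/-- **the main step**: `Hyp` holds at the point fixed by `S` -/
theorem hyp [Finite G] [Finite K] (H : Sy d O S Z) (hR : ∀ s ∈ (S : Subgroup G), cj s d.R0 = d.R0) :
    Hyp d O := by
  have hZR := H.Z_R0 hR
  set C : Subgroup G := centralizer (Z : Set G) with hC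
  set Qt : Subgroup G := O C with hQt
  have hSC : (S : Subgroup G) ≤ C := by
    intro s hs
    rw [hC, mem_centralizer_iff]
    intro z hz
    exact H.Z_S z hz s hs
  have hVC : V ≤ C := by
    intro v hv
    rw [hC, mem_centralizer_iff]
    intro z hz
    exact d.comm (H.Z_V hz) hv
  have hQtS : Qt ≤ S := le_sylow S hSC (H.isO.two C) (H.isO.nor C)
  have hQtM : Qt ≤ M := hQtS.trans H.S_M
  have hR0ne : d.R0 ≠ ⊥ := by
    intro h0
    obtain ⟨v, hv, x1, y1, z1⟩ := d.exists_v 1 0 0 (map_one σ) (map_zero σ)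
    have h1 : v ∈ d.R0 := ⟨hv, y1, z1⟩
    rw [h0, mem_bot] at h1
    rw [h1, Co.X_one] at x1
    exact zero_ne_one x1
  have hSN : (S : Subgroup G) ≤ normalizer (d.R0 : Set G) := fun s hs => mem_normalizer_iff_cj.mpr (hR s hs)
  have hnorC : ∀ c ∈ C, c ∈ normalizer (Qt : Set G) := by
    intro c hc
    rw [mem_normalizer_iff]
    intro y
    refine ⟨fun hy => H.isO.nor C c hc y hy, fun hy => ?_⟩
    have h1 := H.isO.nor C c⁻¹ (inv_mem hc) _ hy
    have e : c⁻¹ * (c * y * c⁻¹) * c⁻¹⁻¹ = y := by group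
    rwa [e] at h1
  -- elements fixing `R₀` pointwise
  have hcen : ∀ g : G, (∀ v ∈ d.R0, g * v * g⁻¹ = v) → g ∈ C := by
    intro g hg
    rw [hC, mem_centralizer_iff]
    intro z hz
    have h1 := hg z (hZR hz)
    calc z * g = (g * z * g⁻¹) * g := by rw [h1]
      _ = g * z := by group
  have hσ : σ ≠ RingEquiv.refl K := by
    obtain ⟨x, hx⟩ := d.nt
    intro h0
    apply hx
    rw [h0]; rfl
  -- `Qt` induces `U₀`
  have hact := d.cover (X := Qt) (T := {t : K | t * σ t = 1}) (H.isO.two C) hQtM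
    (fun y hy => hR y (hQtS hy))
    (by
      intro hc
      apply H.V_Qt
      intro v hv
      apply H.char2C v (hVC hv)
      intro y hy
      exact mem_centralizer_iff.mp (hc hy) v hv)
    (fun B hB hB0 => HermField.closed_eq_top' hσ d.inv B (fun t ht b hb => hB t ht b hb) hB0)
    (by
      rintro t ht rfl
      rw [Set.mem_ofPred_eq, zero_mul] at ht
      exact zero_ne_one ht)
    (fun g hg a ha => hnorC g (hcen g fun v hv => d.fix_of_mem_R0 hv hg ha))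
    (fun t ht htT g hg hga => hnorC g (hcen g fun v hv => by
      apply d.ext (d.conj_mem' hg hv.1) hv.1
      · rw [d.h_X hga hv.1]
        have h1 : t * σ t = 1 := htT
        linear_combination d.X v * h1
      · rw [d.h_Y hga hv.1, hv.2.1]; simp
      · rw [d.h_Z hga hv.1, hv.2.2]; simp))
  have hcenR : ∀ r ∈ d.R0, ∀ x ∈ Qt, x * r = r * x := by
    intro r hr x hx
    obtain ⟨a, ha⟩ := hact.1 x hx
    have h1 := d.fix_of_mem_R0 hr (hQtM hx) ha
    calc x * r = (x * r * x⁻¹) * x := by group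
      _ = r * x := by rw [h1]
  refine ⟨H.isO, H.C_M, ?_, H.char2N _ hR0ne d.R0_le hSN, ?_⟩
  · exact (le_sylow S hSN (H.isO.two _) (H.isO.nor _)).trans H.S_M
  · intro hVQ
    apply H.V_Qt
    refine App.le_of_le (C := C) (R := d.R0) hVC (H.isO.nor C) (H.isO.max C)
      (fun c hc hx => H.char2C c hc fun y hy => (hx y hy).symm) d.R0_le (fun r hr => d.sq hr.1) hcenR
      ?_ (H.isO.two (normalizer (d.R0 : Set G))) (H.isO.nor _) hVQ
    -- an involution `y` of `Z(Qt)` centralises `V`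
    intro y hy hyc _ v hv
    obtain ⟨a, ha⟩ := hact.1 y hy
    obtain ⟨v1, hv1, x1, y1, z1⟩ := d.exists_v 0 0 1 (map_zero σ) (map_one σ)
    have h2 := d.conj_mem' (hQtM hy) hv1
    have h3 : v1 * (y * v1 * y⁻¹) ∈ d.R0 := by
      apply d.mem_R0_of_fix (V.mul_mem hv1 h2)
      intro b hb g hg hgb
      obtain ⟨x, hx, hxb⟩ := hact.2 b
      rw [hgb.eq hxb hg (hQtM hx) (V.mul_mem hv1 h2)]
      -- `[v1, y]` is central in `Qt`
      have h4 : ∀ x ∈ Qt, x * (v1 * y * v1⁻¹) = (v1 * y * v1⁻¹) * x := by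
        intro x hx
        have h5 : v1⁻¹ * x * v1 ∈ Qt := by
          have := H.isO.nor C v1⁻¹ (inv_mem (hVC hv1)) x hx
          rwa [inv_inv] at this
        have h6 := hyc _ h5
        calc x * (v1 * y * v1⁻¹) = v1 * ((v1⁻¹ * x * v1) * y) * v1⁻¹ := by group
          _ = v1 * (y * (v1⁻¹ * x * v1)) * v1⁻¹ := by rw [h6]
          _ = (v1 * y * v1⁻¹) * x := by group
      have h7 : v1 * (y * v1 * y⁻¹) = (v1 * y * v1⁻¹) * y⁻¹ := by rw [d.inv_eq hv1]; group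
      have h8 : x * ((v1 * y * v1⁻¹) * y⁻¹) = ((v1 * y * v1⁻¹) * y⁻¹) * x := by
        have h9 : x * y⁻¹ = y⁻¹ * x := by
          have := hyc x hx
          calc x * y⁻¹ = y⁻¹ * (y * x) * y⁻¹ := by group
            _ = y⁻¹ * (x * y) * y⁻¹ := by rw [this]
            _ = y⁻¹ * x := by group
        calc x * ((v1 * y * v1⁻¹) * y⁻¹) = (x * (v1 * y * v1⁻¹)) * y⁻¹ := by group
          _ = ((v1 * y * v1⁻¹) * x) * y⁻¹ := by rw [h4 x hx]
          _ = (v1 * y * v1⁻¹) * (x * y⁻¹) := by group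
          _ = (v1 * y * v1⁻¹) * (y⁻¹ * x) := by rw [h9]
          _ = _ := by group
      rw [h7, h8, mul_inv_cancel_right]
    have h4 := h3.2.1
    rw [d.Y_mul hv1 h2, d.u_Y ha hv1, y1, z1, mul_one, zero_add, zero_add] at h4
    rw [h4, u_zero] at ha
    have h5 := (act_one_iff (hQtM hy)).mp ha
    exact mem_centralizer_iff.mp h5 v hv

/-- **THEOREM BETA, part F.** -/
theorem main [Finite G] [Finite K] (H : Sy d O S Z) :
    ∃ (g : G) (hg : g ∈ M), (S : Subgroup G) ≤ normalizer ((d.mv g hg).R0 : Set G) ∧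
      Z ≤ (d.mv g hg).R0 ∧ Hyp (d.mv g hg) O := by
  obtain ⟨g, hg, hR⟩ := exists_fixed_pt d H.S_M S.isPGroup'
  exact ⟨g, hg, fun s hs => mem_normalizer_iff_cj.mpr (hR s hs), (H.mv hg).Z_R0 hR, (H.mv hg).hyp hR⟩

end Sy

end Cfsg.Agent.Omega.NO1.Beta.Inst

end

-- merged: Cfsg.Agent.Mrg.Omega.NO1.BetaPlus.Meet
section

/-!
# `Q i ⊓ Q j ≤ V` for opposite points, type (γ) (helper914; helper198's proof of `Beta/Meet.lean` with `op`)
-/

set_option autoImplicit false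
set_option linter.unusedSectionVars false

namespace Cfsg.Agent.Omega.NO1.BetaPlus

open Subgroup
open Cfsg.Agent.Omega.NO1.Beta.Meet (cj mem_cj conj_mem_cj cj_mul cj_inj cj_eq_of_comm cj_eq_of_mem
  mem_normalizer_of_cj cj_of_mem_normalizer exists_of_fpf swap_abs swap_abs')

variable {G : Type*} [Group G] {I : Type*}

/-- The output of THEOREM BETA for type (γ), `op` = opposite. -/
structure Mo (V : Subgroup G) (R Q : I → Subgroup G) (op : I → I → Prop) : Prop where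
  comm : ∀ a ∈ V, ∀ b ∈ V, a * b = b * a
  R_le : ∀ i, R i ≤ V
  R_Q : ∀ i, R i ≤ Q i
  RQ : ∀ i, ∀ r ∈ R i, ∀ y ∈ Q i, r * y = y * r
  QQ : ∀ i, ∀ y ∈ Q i, ∀ z ∈ Q i, y * z * y⁻¹ * z⁻¹ ∈ R i
  Qsq : ∀ i, ∀ y ∈ Q i, y * y ∈ R i
  cen : ∀ i, ∀ y ∈ Q i, (∀ z ∈ Q i, y * z = z * y) → y ∈ R i
  Q_V : ∀ i, Q i ≤ normalizer (V : Set G)
  nor : ∀ i, ∀ c ∈ normalizer (R i : Set G), cj c (Q i) = Q i
  symm : ∀ {i j}, op i j → op j i
  conn : ∀ i k, ∃ c, op i c ∧ op c k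
  fixj : ∀ i j, op i j → ∀ y ∈ Q i, cj y (R j) = R j → y ∈ centralizer (V : Set G)
  move : ∀ {k l}, op k l → ∀ {y}, y ∈ Q k → ∃ m, op k m ∧ cj y (R l) = R m ∧ cj y (Q l) = Q m
  Q_of_R : ∀ {k l m y}, y ∈ Q k → cj y (R l) = R m → cj y (Q l) = Q m
  tran : ∀ i j k, op i j → op i k → ∃ y ∈ Q i, cj y (R j) = R k
  RQj : ∀ i j, op i j → R i ⊓ Q j = ⊥
  VE : ∀ i j, op i j → V ≤ (V ⊓ Q i) ⊔ R j

namespace Mo

variable {V : Subgroup G} {R Q : I → Subgroup G} {op : I → I → Prop} (M : Mo V R Q op)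
include M

theorem V_le_C : V ≤ centralizer (V : Set G) := fun v hv => by
  rw [mem_centralizer_iff]
  intro w hw
  exact M.comm w hw v hv

theorem C_nor (i : I) {c : G} (hc : c ∈ centralizer (V : Set G)) : cj c (Q i) = Q i := by
  apply M.nor
  apply mem_normalizer_of_cj
  apply cj_eq_of_comm
  intro x hx
  exact ((mem_centralizer_iff.mp hc) x (M.R_le i hx)).symm

theorem C_conj (i : I) {c x : G} (hc : c ∈ centralizer (V : Set G)) (hx : x ∈ Q i) : c * x * c⁻¹ ∈ Q i := by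
  have := conj_mem_cj (c := c) hx
  rwa [M.C_nor i hc] at this

theorem Q_cent {i : I} {y : G} (hy : y ∈ Q i) {c : G} (hc : c ∈ centralizer (V : Set G)) :
    y * c * y⁻¹ ∈ centralizer (V : Set G) := by
  rw [mem_centralizer_iff] at hc ⊢
  intro v hv
  have h1 : y⁻¹ * v * y ∈ V := by
    have := (mem_normalizer_iff.mp ((normalizer (V : Set G)).inv_mem (M.Q_V i hy)) v).mp hv
    rwa [inv_inv] at this
  have h2 := hc _ h1
  calc v * (y * c * y⁻¹) = y * ((y⁻¹ * v * y) * c) * y⁻¹ := by group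
    _ = y * (c * (y⁻¹ * v * y)) * y⁻¹ := by rw [h2]
    _ = y * c * y⁻¹ * v := by group

theorem Q_V' {i : I} {y v : G} (hy : y ∈ Q i) (hv : v ∈ V) : y * v * y⁻¹ ∈ V :=
  (mem_normalizer_iff.mp (M.Q_V i hy) v).mp hv

theorem RQ' (i : I) {y : G} (hy : y ∈ Q i) : cj y (R i) = R i :=
  cj_eq_of_comm fun x hx => (M.RQ i x hx y hy).symm

/-- `Q k ⊓ Q l` centralises `V` -/
theorem meet_le_C {k l : I} (h : op k l) {f : G} (hk : f ∈ Q k) (hl : f ∈ Q l) :
    f ∈ centralizer (V : Set G) := M.fixj k l h f hk (M.RQ' l hl)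

/-- elements of `(Q k ⊓ Q l) V` -/
theorem mem_FF {k l : I} (h : op k l) {x : G} :
    x ∈ (Q k ⊓ Q l) ⊔ V ↔ ∃ f ∈ Q k ⊓ Q l, ∃ v ∈ V, f * v = x := by
  have hn : Q k ⊓ Q l ≤ normalizer (V : Set G) := fun f hf => M.Q_V k hf.1
  have := Subgroup.coe_mul_of_left_le_normalizer_right (Q k ⊓ Q l) V hn
  rw [← SetLike.mem_coe, this, Set.mem_mul]
  rfl

theorem FF_le {k l m : I} (hl : op k l) (hm : op k m) : (Q k ⊓ Q m) ⊔ V ≤ (Q k ⊓ Q l) ⊔ V := by
  rw [sup_le_iff]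
  refine ⟨?_, le_sup_right⟩
  intro f hf
  obtain ⟨y, hy, hyR⟩ := M.tran k l m hl hm
  have hyQ := M.Q_of_R hy hyR
  have h1 : y⁻¹ * f * y ∈ Q l := by rw [← mem_cj, hyQ]; exact hf.2
  have h2 : y⁻¹ * f * y ∈ Q k := (Q k).mul_mem ((Q k).mul_mem ((Q k).inv_mem hy) hf.1) hy
  have h3 := M.QQ k _ hy _ h2
  rw [M.mem_FF hl]
  refine ⟨y⁻¹ * f * y, ⟨h2, h1⟩, _, M.R_le k h3, ?_⟩
  rw [← M.RQ k _ h3 _ h2]
  group

/-- the group `(Q k ⊓ Q l) V` does not depend on `k ≠ l` -/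
theorem FF_all {i j k l : I} (h : op i j) (h' : op k l) : (Q k ⊓ Q l) ⊔ V ≤ (Q i ⊓ Q j) ⊔ V := by
  obtain ⟨c, hkc, hci⟩ := M.conn k i
  calc (Q k ⊓ Q l) ⊔ V ≤ (Q k ⊓ Q c) ⊔ V := M.FF_le hkc h'
    _ = (Q c ⊓ Q k) ⊔ V := by rw [inf_comm]
    _ ≤ (Q c ⊓ Q i) ⊔ V := M.FF_le hci (M.symm hkc)
    _ = (Q i ⊓ Q c) ⊔ V := by rw [inf_comm]
    _ ≤ (Q i ⊓ Q j) ⊔ V := M.FF_le h (M.symm hci)

theorem FF_eq {i j k l : I} (h : op i j) (h' : op k l) : (Q k ⊓ Q l) ⊔ V = (Q i ⊓ Q j) ⊔ V :=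
  le_antisymm (M.FF_all h h') (M.FF_all h' h)

/-- every `Q k` normalises `W := (Q i ⊓ Q j) V`, and acts trivially on `W / V` -/
theorem Q_W {i j : I} (h : op i j) {k : I} {y w : G} (hy : y ∈ Q k) (hw : w ∈ (Q i ⊓ Q j) ⊔ V) :
    y * w * y⁻¹ * w⁻¹ ∈ V := by
  obtain ⟨l, hl, -⟩ := M.conn k k
  rw [← M.FF_eq h hl, M.mem_FF hl] at hw
  obtain ⟨f, hf, v, hv, rfl⟩ := hw
  have h1 := M.QQ k _ hy _ hf.1
  have hfC := M.meet_le_C hl hf.1 hf.2
  have h2 := M.Q_V' hy hv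
  have h3 : (y * f * y⁻¹ * f⁻¹) * (f * ((y * v * y⁻¹) * v⁻¹) * f⁻¹) ∈ V := by
    refine V.mul_mem (M.R_le k h1) ?_
    have h4 : (y * v * y⁻¹) * v⁻¹ ∈ V := V.mul_mem h2 (V.inv_mem hv)
    have h5 := (mem_centralizer_iff.mp hfC) _ h4
    rw [← h5, mul_assoc, mul_inv_cancel, mul_one]
    exact h4
  have h6 : y * (f * v) * y⁻¹ * (f * v)⁻¹ = (y * f * y⁻¹ * f⁻¹) * (f * ((y * v * y⁻¹) * v⁻¹) * f⁻¹) := by
    group
  rw [h6]; exact h3

theorem Q_W' {i j : I} (h : op i j) {k : I} {y w : G} (hy : y ∈ Q k) (hw : w ∈ (Q i ⊓ Q j) ⊔ V) :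
    y * w * y⁻¹ ∈ (Q i ⊓ Q j) ⊔ V := by
  have h1 : V ≤ (Q i ⊓ Q j) ⊔ V := le_sup_right
  have h2 := mul_mem (h1 (M.Q_W h hy hw)) hw
  have h3 : y * w * y⁻¹ * w⁻¹ * w = y * w * y⁻¹ := by group
  rwa [h3] at h2

/-- `y ∈ Q k`, `b ∈ Q l ⊓ C(V)`: `[y, b] ∈ Q k ⊓ C(V)` -/
theorem comm_mem {k l : I} {y b : G} (hy : y ∈ Q k) (hb : b ∈ Q l) (hbC : b ∈ centralizer (V : Set G)) :
    y * b * y⁻¹ * b⁻¹ ∈ Q k ∧ y * b * y⁻¹ * b⁻¹ ∈ centralizer (V : Set G) := by
  constructor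
  · have h1 := M.C_conj k hbC ((Q k).inv_mem hy)
    have h2 : y * b * y⁻¹ * b⁻¹ = y * (b * y⁻¹ * b⁻¹) := by group
    rw [h2]
    exact (Q k).mul_mem hy h1
  · exact mul_mem (M.Q_cent hy hbC) (inv_mem hbC)

/-- two elements of the `Q k ⊓ C(V)` commute modulo `W` -/
theorem comm_AA {i j : I} (h : op i j) {k l : I} (hkl : op k l) {a b : G} (ha : a ∈ Q k) (haC : a ∈ centralizer (V : Set G))
    (hb : b ∈ Q l) (hbC : b ∈ centralizer (V : Set G)) : a * b * a⁻¹ * b⁻¹ ∈ (Q i ⊓ Q j) ⊔ V := by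
  have h1 := (M.comm_mem ha hb hbC).1
  have h2 : a * b * a⁻¹ * b⁻¹ ∈ Q l := (Q l).mul_mem (M.C_conj l haC hb) ((Q l).inv_mem hb)
  rw [← M.FF_eq h hkl]
  exact mem_sup_left (mem_inf.mpr ⟨h1, h2⟩)

/-- **the spread**: an element of `Q k ⊓ C(V)` which is congruent to an element of `Q l ⊓ C(V)` modulo `W` lies in
`W` -/
theorem spread {i j : I} (h : op i j) {k l : I} (hkl : op k l) {c b : G} (hc : c ∈ Q k) (hb : b ∈ Q l)
    (hw : b⁻¹ * c ∈ (Q i ⊓ Q j) ⊔ V) : c ∈ (Q i ⊓ Q j) ⊔ V := by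
  rw [← M.FF_eq h hkl] at hw ⊢
  rw [M.mem_FF hkl] at hw
  obtain ⟨f, hf, v, hv, hfv⟩ := hw
  have h1 : v ∈ (V ⊓ Q k) ⊔ R l := M.VE k l hkl hv
  have hn : V ⊓ Q k ≤ normalizer (R l : Set G) := by
    intro x hx
    apply mem_normalizer_of_cj
    apply cj_eq_of_comm
    intro r hr
    exact M.comm x hx.1 r (M.R_le l hr)
  rw [← SetLike.mem_coe, Subgroup.coe_mul_of_left_le_normalizer_right _ _ hn, Set.mem_mul] at h1
  obtain ⟨e, he, r, hr, rfl⟩ := h1
  have he' : e ∈ V ⊓ Q k := he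
  have hr' : r ∈ R l := hr
  have her : e * r = r * e := M.comm e he'.1 r (M.R_le l hr')
  have h2 : c * e⁻¹ = b * f * r := by
    have : c = b * (f * (e * r)) := by rw [hfv]; group
    rw [this, her]; group
  have h3 : c * e⁻¹ ∈ Q k ⊓ Q l := by
    refine mem_inf.mpr ⟨(Q k).mul_mem hc ((Q k).inv_mem he'.2), ?_⟩
    rw [h2]
    exact (Q l).mul_mem ((Q l).mul_mem hb hf.2) (M.R_Q l hr')
  rw [M.mem_FF hkl]
  exact ⟨_, h3, e, he'.1, by group⟩

/-! ### matching elements -/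

/-- `y ∈ Q i`, `y' ∈ Q j` and `y : j ↦ l`, `y' : i ↦ l`. For `a ∈ Q i ⊓ C(V)`, `b := [y', a]`: `[y, b] ≡ a` modulo `W`. -/
theorem match_comm {i j : I} (h : op i j) {y y' : G} (hy : y ∈ Q i) (hy' : y' ∈ Q j)
    (hm : cj y (R j) = cj y' (R i)) {a : G} (ha : a ∈ Q i) (haC : a ∈ centralizer (V : Set G)) :
    y * (y' * a * y'⁻¹ * a⁻¹) * y⁻¹ * (y' * a * y'⁻¹ * a⁻¹)⁻¹ * a⁻¹ ∈ (Q i ⊓ Q j) ⊔ V := by
  obtain ⟨l, hl, hlR, hlQ⟩ := M.move h hy
  have hlQ' : cj y' (Q i) = Q l := M.Q_of_R hy' (hm.symm.trans hlR)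
  set b := y' * a * y'⁻¹ * a⁻¹ with hbdef
  obtain ⟨hb, hbC⟩ := M.comm_mem hy' ha haC
  obtain ⟨ha2, ha2C⟩ := M.comm_mem hy hb hbC
  set a2 := y * b * y⁻¹ * b⁻¹ with ha2def
  -- `b a = y' a y'⁻¹ ∈ Q l`, `a2 b = y b y⁻¹ ∈ Q l`
  have h1 : b * a ∈ Q l := by
    have : b * a = y' * a * y'⁻¹ := by rw [hbdef]; group
    rw [this, ← hlQ']; exact conj_mem_cj ha
  have h2 : a2 * b ∈ Q l := by
    have : a2 * b = y * b * y⁻¹ := by rw [ha2def]; group
    rw [this, ← hlQ]; exact conj_mem_cj hb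
  have h3 : (a2 * b) * (b * a)⁻¹ ∈ Q l := mul_mem h2 (inv_mem h1)
  -- `(a2 b) (b a)⁻¹ = a2 b a⁻¹ b⁻¹`
  have h4 := M.comm_AA h (M.symm h) hb hbC ha haC
  have h5 : a2 * a⁻¹ ∈ Q i := mul_mem ha2 (inv_mem ha)
  have h6 : ((a2 * b) * (b * a)⁻¹)⁻¹ * (a2 * a⁻¹) ∈ (Q i ⊓ Q j) ⊔ V := by
    have : ((a2 * b) * (b * a)⁻¹)⁻¹ * (a2 * a⁻¹) = b * a * b⁻¹ * a⁻¹ := by group
    rw [this]
    exact h4
  exact M.spread h hl h5 h3 h6

/-- an element of `Q i` that moves `R j` acts without fixed points on `(Q j ⊓ C(V)) W / W` -/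
theorem fpf_one {i j : I} (h : op i j) {y : G} (hy : y ∈ Q i) (hmv : ∃ k, op j k ∧ cj y (R j) = R k)
    {b : G} (hb : b ∈ Q j)
    (hf : y * b * y⁻¹ * b⁻¹ ∈ (Q i ⊓ Q j) ⊔ V) : b ∈ (Q i ⊓ Q j) ⊔ V := by
  obtain ⟨m, hmj, hmR⟩ := hmv
  have hmQ := M.Q_of_R hy hmR
  have h1 : y * b * y⁻¹ ∈ Q m := by rw [← hmQ]; exact conj_mem_cj hb
  have hbi : b ∈ Q j := hb
  refine M.spread h hmj hb h1 ?_
  -- `(y b y⁻¹)⁻¹ b = (y b y⁻¹)⁻¹ [y, b]⁻¹ (y b y⁻¹)`
  have h2 : (y * b * y⁻¹)⁻¹ * b = b⁻¹ * (y * b * y⁻¹ * b⁻¹)⁻¹ * b := by group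
  rw [h2]
  have h3 := M.Q_W' h (inv_mem hb) (inv_mem hf)
  rwa [inv_inv] at h3

end Mo

/-- A torus element `t = (y y' y)(z z' z)`, `y, z ∈ Q i`, `y', z' ∈ Q j`. -/
structure ToO (V : Subgroup G) (R Q : I → Subgroup G) (op : I → I → Prop) (i j : I) (y y' z z' : G) : Prop where
  hy : y ∈ Q i
  hz : z ∈ Q i
  hy' : y' ∈ Q j
  hz' : z' ∈ Q j
  ym : cj y (R j) = cj y' (R i)
  zm : cj z (R j) = cj z' (R i)
  ne : ∃ k, op j k ∧ cj (z⁻¹ * y) (R j) = R k
  /-- `t` centralises `R i` -/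
  tR : ∀ r ∈ R i, (y * y' * y) * (z * z' * z) * r = r * ((y * y' * y) * (z * z' * z))
  /-- `t` is fixed point free on `(V ⊓ Q i) / R i` -/
  tE : ∀ e ∈ V ⊓ Q i, e⁻¹ * ((y * y' * y) * (z * z' * z) * e * ((y * y' * y) * (z * z' * z))⁻¹) ∈ R i → e ∈ R i
  /-- `t` is fixed point free on `Q i / (Q i ⊓ C(V))` -/
  tU : ∀ u ∈ Q i, u⁻¹ * ((y * y' * y) * (z * z' * z) * u * ((y * y' * y) * (z * z' * z))⁻¹) ∈
    centralizer (V : Set G) → u ∈ centralizer (V : Set G)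

namespace Mo

variable {V : Subgroup G} {R Q : I → Subgroup G} {op : I → I → Prop} (M : Mo V R Q op)
include M

/-- `n = y y' y` interchanges `Q i` and `Q j`, and induces `a ↦ [y', a]` on `(Q i ⊓ C(V)) W / W` -/
theorem swap {i j : I} (h : op i j) {y y' : G} (hy : y ∈ Q i) (hy' : y' ∈ Q j)
    (hm : cj y (R j) = cj y' (R i)) : cj (y * y' * y) (Q i) = Q j ∧ cj (y * y' * y) (Q j) = Q i ∧
      cj (y * y' * y) (R i) = R j ∧ cj (y * y' * y) (R j) = R i := by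
  obtain ⟨l, hl, hlR, hlQ⟩ := M.move h hy
  have hlR' : cj y' (R i) = R l := hm.symm.trans hlR
  have hlQ' : cj y' (Q i) = Q l := M.Q_of_R hy' hlR'
  -- `y R l = R j`, as `y² ∈ R i ≤ V`
  have hyy : y * y ∈ V := M.R_le i (M.Qsq i y hy)
  have hyyC := M.V_le_C hyy
  have hyyR : ∀ k, cj (y * y) (R k) = R k := fun k => cj_eq_of_comm fun x hx => M.comm _ hyy _ (M.R_le k hx)
  have hyyQ : ∀ k, cj (y * y) (Q k) = Q k := fun k => M.C_nor k hyyC
  have hyy' : y' * y' ∈ V := M.R_le j (M.Qsq j y' hy')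
  have hyyR' : ∀ k, cj (y' * y') (R k) = R k := fun k => cj_eq_of_comm fun x hx => M.comm _ hyy' _ (M.R_le k hx)
  have hyyQ' : ∀ k, cj (y' * y') (Q k) = Q k := fun k => M.C_nor k (M.V_le_C hyy')
  have h1 : cj y (Q l) = Q j := by rw [← hlQ, ← cj_mul]; exact hyyQ j
  have h2 : cj y (R l) = R j := by rw [← hlR, ← cj_mul]; exact hyyR j
  have h3 : cj y' (Q l) = Q i := by rw [← hlQ', ← cj_mul]; exact hyyQ' i
  have h4 : cj y' (R l) = R i := by rw [← hlR', ← cj_mul]; exact hyyR' i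
  refine ⟨?_, ?_, ?_, ?_⟩
  · rw [cj_mul, cj_mul, cj_eq_of_mem hy, hlQ', h1]
  · rw [cj_mul, cj_mul, hlQ, h3, cj_eq_of_mem hy]
  · rw [cj_mul, cj_mul, M.RQ' i hy, hlR', h2]
  · rw [cj_mul, cj_mul, hlR, h4, M.RQ' i hy]

theorem mem_nor_W {i j : I} (h : op i j) {k : I} {y : G} (hy : y ∈ Q k) :
    y ∈ normalizer (((Q i ⊓ Q j) ⊔ V : Subgroup G) : Set G) := by
  rw [mem_normalizer_iff]
  intro w
  constructor
  · exact fun hw => M.Q_W' h hy hw
  · intro hw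
    have h1 := M.Q_W' h ((Q k).inv_mem hy) hw
    have h2 : y⁻¹ * (y * w * y⁻¹) * y⁻¹⁻¹ = w := by group
    rwa [h2] at h1

end Mo

namespace Mo

variable {V : Subgroup G} {R Q : I → Subgroup G} {op : I → I → Prop} (M : Mo V R Q op)
include M

/-- `t` acts without fixed points on `(Q i ⊓ C(V)) W / W` -/
theorem tor_fpf {i j : I} (h : op i j) {y y' z z' : G} (T : ToO V R Q op i j y y' z z') {a : G} (ha : a ∈ Q i)
    (haC : a ∈ centralizer (V : Set G))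
    (hf : (y * y' * y) * (z * z' * z) * a * ((y * y' * y) * (z * z' * z))⁻¹ * a⁻¹ ∈ (Q i ⊓ Q j) ⊔ V) :
    a ∈ (Q i ⊓ Q j) ⊔ V := by
  set W : Subgroup G := (Q i ⊓ Q j) ⊔ V with hW
  let N : Subgroup G := normalizer (W : Set G)
  let N' : Subgroup ↥N := W.subgroupOf N
  have hVW : V ≤ W := le_sup_right
  have hRW : ∀ k, R k ≤ W := fun k => (M.R_le k).trans hVW
  have hN'n : N'.Normal := Subgroup.normal_subgroupOf_of_le_normalizer le_rfl
  have hQN : ∀ {k : I} {x : G}, x ∈ Q k → x ∈ N := fun {k x} hx => M.mem_nor_W h hx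
  let q : ↥N →* ↥N ⧸ N' := QuotientGroup.mk' N'
  have key : ∀ x x' : ↥N, (x : G) * (x' : G)⁻¹ ∈ W → q x = q x' := by
    intro x x' hx
    have h1 : q (x * x'⁻¹) = 1 := by
      have : (x * x'⁻¹) ∈ N' := by
        rw [mem_subgroupOf]; exact hx
      exact (QuotientGroup.eq_one_iff _).mpr this
    rw [map_mul, map_inv] at h1
    exact mul_inv_eq_one.mp h1
  have key' : ∀ x x' : ↥N, q x = q x' → (x : G) * (x' : G)⁻¹ ∈ W := by
    intro x x' hx
    have h1 : q (x * x'⁻¹) = 1 := by rw [map_mul, map_inv, hx, mul_inv_cancel]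
    have h2 := (QuotientGroup.eq_one_iff _).mp h1
    rw [mem_subgroupOf] at h2
    exact h2
  -- the elements
  obtain ⟨hb, hbC⟩ := M.comm_mem T.hz' ha haC
  set b := z' * a * z'⁻¹ * a⁻¹ with hbdef
  obtain ⟨ha3, ha3C⟩ := M.comm_mem T.hy hb hbC
  set a3 := y * b * y⁻¹ * b⁻¹ with ha3def
  have hm1 := M.match_comm h T.hz T.hz' T.zm ha haC
  rw [← hbdef] at hm1
  have hm2 := M.match_comm (M.symm h) T.hy' T.hy T.ym.symm hb hbC
  rw [← ha3def, inf_comm (Q j) (Q i)] at hm2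
  let Y : ↥N := ⟨y, hQN T.hy⟩
  let Y' : ↥N := ⟨y', hQN T.hy'⟩
  let Z : ↥N := ⟨z, hQN T.hz⟩
  let Z' : ↥N := ⟨z', hQN T.hz'⟩
  let A : ↥N := ⟨a, hQN ha⟩
  let B : ↥N := ⟨b, hQN hb⟩
  let A3 : ↥N := ⟨a3, hQN ha3⟩
  have e1 : q Z * q A = q A * q Z := by
    rw [← map_mul, ← map_mul]
    apply key
    have : (z * a) * (a * z)⁻¹ = z * a * z⁻¹ * a⁻¹ := by group
    change (z * a) * (a * z)⁻¹ ∈ W
    rw [this]; exact hRW i (M.QQ i z T.hz a ha)
  have e2 : q Z' * q A = q B * q A * q Z' := by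
    rw [← map_mul, ← map_mul, ← map_mul]
    apply congrArg
    apply Subtype.ext
    change z' * a = b * a * z'
    rw [hbdef]; group
  have e4 : q A * q B = q B * q A := by
    rw [← map_mul, ← map_mul]
    apply key
    have : (a * b) * (b * a)⁻¹ = a * b * a⁻¹ * b⁻¹ := by group
    change (a * b) * (b * a)⁻¹ ∈ W
    rw [this]; exact M.comm_AA h h ha haC hb hbC
  have e5 : q A * q A = 1 := by
    rw [← map_mul, ← map_one q]
    apply key
    change (a * a) * (1 : G)⁻¹ ∈ W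
    rw [inv_one, mul_one]; exact hRW i (M.Qsq i a ha)
  have e3 : q Z * q B = q A * q B * q Z := by
    rw [← map_mul, ← map_mul, ← map_mul]
    apply key
    have : (z * b) * (a * b * z)⁻¹ = a * (a⁻¹ * (z * b * z⁻¹ * b⁻¹ * a⁻¹) * a⁻¹⁻¹) * a⁻¹ := by group
    change (z * b) * (a * b * z)⁻¹ ∈ W
    rw [this]
    exact M.Q_W' h ha (M.Q_W' h (inv_mem ha) hm1)
  have r1 := swap_abs e1 e2 e3 e4 e5
  have f1 : q Y * q B = q A3 * q B * q Y := by
    rw [← map_mul, ← map_mul, ← map_mul]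
    apply congrArg
    apply Subtype.ext
    change y * b = a3 * b * y
    rw [ha3def]; group
  have f2 : q Y' * q A3 = q B * q A3 * q Y' := by
    rw [← map_mul, ← map_mul, ← map_mul]
    apply key
    have : (y' * a3) * (b * a3 * y')⁻¹ = y' * a3 * y'⁻¹ * a3⁻¹ * b⁻¹ := by group
    change (y' * a3) * (b * a3 * y')⁻¹ ∈ W
    rw [this]
    exact hm2
  have f3 : q Y' * q B = q B * q Y' := by
    rw [← map_mul, ← map_mul]
    apply key
    have : (y' * b) * (b * y')⁻¹ = y' * b * y'⁻¹ * b⁻¹ := by group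
    change (y' * b) * (b * y')⁻¹ ∈ W
    rw [this]; exact hRW j (M.QQ j y' T.hy' b hb)
  have f4 : q A3 * q B = q B * q A3 := by
    rw [← map_mul, ← map_mul]
    apply key
    have : (a3 * b) * (b * a3)⁻¹ = a3 * b * a3⁻¹ * b⁻¹ := by group
    change (a3 * b) * (b * a3)⁻¹ ∈ W
    rw [this]; exact M.comm_AA h h ha3 ha3C hb hbC
  have f5 : q B * q B = 1 := by
    rw [← map_mul, ← map_one q]
    apply key
    change (b * b) * (1 : G)⁻¹ ∈ W
    rw [inv_one, mul_one]; exact hRW j (M.Qsq j b hb)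
  have f6 : q Y * q A3 = q A3 * q Y := by
    rw [← map_mul, ← map_mul]
    apply key
    have : (y * a3) * (a3 * y)⁻¹ = y * a3 * y⁻¹ * a3⁻¹ := by group
    change (y * a3) * (a3 * y)⁻¹ ∈ W
    rw [this]; exact hRW i (M.QQ i y T.hy a3 ha3)
  have r2 := swap_abs' f1 f2 f3 f4 f5 f6
  -- `t a t⁻¹ ≡ a3`
  have r3 : q A3 = q A := by
    have g1 : q (((Y * Y' * Y) * (Z * Z' * Z)) * A * ((Y * Y' * Y) * (Z * Z' * Z))⁻¹) = q A := key _ _ hf
    have g2 : (q Y * q Y' * q Y) * (q Z * q Z' * q Z) * q A =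
        q A3 * ((q Y * q Y' * q Y) * (q Z * q Z' * q Z)) := by
      rw [mul_assoc, r1, ← mul_assoc, r2, mul_assoc]
    rw [map_mul, map_mul, map_mul, map_mul, map_mul, map_mul, map_mul, map_inv, map_mul, map_mul, map_mul,
      map_mul, map_mul, g2, mul_inv_cancel_right] at g1
    exact g1
  -- `[y, b] ≡ [z, b]`
  have r4 : q Y * q B * (q Y)⁻¹ = q Z * q B * (q Z)⁻¹ := by
    rw [f1, e3, r3]; group
  have hyz : z⁻¹ * y ∈ Q i := mul_mem (inv_mem T.hz) T.hy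
  have hbW : b ∈ W := by
    apply M.fpf_one h hyz T.ne hb
    have g1 : q ((Z⁻¹ * Y) * B * (Z⁻¹ * Y)⁻¹) = q B := by
      have : (q Z)⁻¹ * (q Y * q B * (q Y)⁻¹) * q Z = q B := by rw [r4]; group
      rw [← this]
      simp only [map_mul, map_inv]
      group
    exact key' _ _ g1
  -- `a ≡ [z, b] ≡ 1`
  have hB1 : q B = 1 := by
    rw [← map_one q]
    apply key
    change b * (1 : G)⁻¹ ∈ W
    rw [inv_one, mul_one]; exact hbW
  have hA1 : q A = 1 := by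
    rw [hB1, mul_one, mul_one] at e3
    have : q A * q Z = 1 * q Z := by rw [one_mul]; exact e3.symm
    exact mul_right_cancel this
  have := key' A 1 (by rw [hA1, map_one])
  change a * (1 : G)⁻¹ ∈ W at this
  rwa [inv_one, mul_one] at this

/-- the elements of `⟨Q i, Q j⟩` act trivially on `W / V` -/
theorem triv_mul {W : Subgroup G} (hVW : V ≤ W) {x x' : G} (hx : ∀ w ∈ W, x * w * x⁻¹ * w⁻¹ ∈ V)
    (hx' : ∀ w ∈ W, x' * w * x'⁻¹ * w⁻¹ ∈ V) : ∀ w ∈ W, (x * x') * w * (x * x')⁻¹ * w⁻¹ ∈ V := by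
  have _ := M.comm
  intro w hw
  have h1 := hx' w hw
  have h2 : x' * w * x'⁻¹ ∈ W := by
    have := W.mul_mem (hVW h1) hw
    have h3 : x' * w * x'⁻¹ * w⁻¹ * w = x' * w * x'⁻¹ := by group
    rwa [h3] at this
  have h4 := hx _ h2
  have h5 : (x * x') * w * (x * x')⁻¹ * w⁻¹ =
      (x * (x' * w * x'⁻¹) * x⁻¹ * (x' * w * x'⁻¹)⁻¹) * (x' * w * x'⁻¹ * w⁻¹) := by group
  rw [h5]
  exact V.mul_mem h4 h1

/-- **`Q i ⊓ Q j ≤ V`** -/
theorem meet_le [Finite G] {i j : I} (h : op i j) {y y' z z' : G} (T : ToO V R Q op i j y y' z z') :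
    Q i ⊓ Q j ≤ V := by
  set W : Subgroup G := (Q i ⊓ Q j) ⊔ V with hW
  set t : G := (y * y' * y) * (z * z' * z) with ht
  have hVW : V ≤ W := le_sup_right
  obtain ⟨s1, s2, -, -⟩ := M.swap h T.hy T.hy' T.ym
  obtain ⟨s3, s4, -, -⟩ := M.swap h T.hz T.hz' T.zm
  have tQi : cj t (Q i) = Q i := by rw [ht, cj_mul, s3, s2]
  have tQj : cj t (Q j) = Q j := by rw [ht, cj_mul, s4, s1]
  have tQi' : ∀ u ∈ Q i, t * u * t⁻¹ ∈ Q i := fun u hu => by
    have := conj_mem_cj (c := t) hu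
    rwa [tQi] at this
  have tQj' : ∀ u ∈ Q j, t * u * t⁻¹ ∈ Q j := fun u hu => by
    have := conj_mem_cj (c := t) hu
    rwa [tQj] at this
  have tV : t ∈ normalizer (V : Set G) := by
    have a1 := M.Q_V i T.hy
    have a2 := M.Q_V j T.hy'
    have a3 := M.Q_V i T.hz
    have a4 := M.Q_V j T.hz'
    exact mul_mem (mul_mem (mul_mem a1 a2) a1) (mul_mem (mul_mem a3 a4) a3)
  have tV' : ∀ v ∈ V, t * v * t⁻¹ ∈ V := fun v hv => (mem_normalizer_iff.mp tV v).mp hv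
  have tC' : ∀ c ∈ centralizer (V : Set G), t * c * t⁻¹ ∈ centralizer (V : Set G) := by
    intro c hc
    rw [mem_centralizer_iff] at hc ⊢
    intro v hv
    have h1 : t⁻¹ * v * t ∈ V := by
      have := (mem_normalizer_iff.mp ((normalizer (V : Set G)).inv_mem tV) v).mp hv
      rwa [inv_inv] at this
    have h2 := hc _ h1
    calc v * (t * c * t⁻¹) = t * ((t⁻¹ * v * t) * c) * t⁻¹ := by group
      _ = t * (c * (t⁻¹ * v * t)) * t⁻¹ := by rw [h2]
      _ = t * c * t⁻¹ * v := by group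
  have tW : ∀ w ∈ W, t * w * t⁻¹ * w⁻¹ ∈ V := by
    have b1 : ∀ w ∈ W, y * w * y⁻¹ * w⁻¹ ∈ V := fun w hw => M.Q_W h T.hy hw
    have b2 : ∀ w ∈ W, y' * w * y'⁻¹ * w⁻¹ ∈ V := fun w hw => M.Q_W h T.hy' hw
    have b3 : ∀ w ∈ W, z * w * z⁻¹ * w⁻¹ ∈ V := fun w hw => M.Q_W h T.hz hw
    have b4 : ∀ w ∈ W, z' * w * z'⁻¹ * w⁻¹ ∈ V := fun w hw => M.Q_W h T.hz' hw
    exact M.triv_mul hVW (M.triv_mul hVW (M.triv_mul hVW b1 b2) b1)
      (M.triv_mul hVW (M.triv_mul hVW b3 b4) b3)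
  have tR' : ∀ r ∈ R i, t * r * t⁻¹ = r := fun r hr => by
    have h0 : t * r = r * t := T.tR r hr
    rw [h0, mul_inv_cancel_right]
  -- `F := Q i ⊓ Q j` is abelian
  have hRQ : ∀ r ∈ R i, r ∈ Q j → r = 1 := fun r h1 h2 => by
    have : r ∈ R i ⊓ Q j := mem_inf.mpr ⟨h1, h2⟩
    rw [M.RQj i j h, mem_bot] at this
    exact this
  have hFab : ∀ f ∈ Q i ⊓ Q j, ∀ f' ∈ Q i ⊓ Q j, f * f' = f' * f := by
    intro f hf f' hf'
    have h1 := M.QQ i f hf.1 f' hf'.1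
    have h2 := M.RQ j
    have h3 : f * f' * f⁻¹ * f'⁻¹ ∈ Q j :=
      (Q j).mul_mem ((Q j).mul_mem ((Q j).mul_mem hf.2 hf'.2) ((Q j).inv_mem hf.2)) ((Q j).inv_mem hf'.2)
    have h4 := hRQ _ h1 h3
    have h5 : f * f' = (f * f' * f⁻¹ * f'⁻¹) * (f' * f) := by group
    rw [h5, h4, one_mul]
  -- fixed points of `t` on `F`
  have hfix : ∀ c ∈ Q i ⊓ Q j, t * c * t⁻¹ = c → c = 1 := by
    intro c hc hct
    let Kc : Subgroup G := centralizer ({c} : Set G)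
    have memK : ∀ u, c * u = u * c → u ∈ Kc := fun u hu => mem_centralizer_singleton_iff.mpr (by
      first | exact hu | exact hu.symm)
    have hRK : ∀ r ∈ R i, r ∈ Kc := fun r hr => memK r (M.RQ i r hr c hc.1).symm
    have hFK : ∀ f ∈ Q i ⊓ Q j, f ∈ Kc := fun f hf => memK f (hFab c hc f hf)
    have hD : ∀ u ∈ Q i, u⁻¹ * (t * u * t⁻¹) ∈ Kc := by
      intro u hu
      have h1 := M.QQ i c hc.1 u hu
      have h2 := tR' _ h1
      have h3 : c * (t * u * t⁻¹) * c⁻¹ = (c * u * c⁻¹ * u⁻¹) * (t * u * t⁻¹) := by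
        have e1 : t * (c * u * c⁻¹ * u⁻¹) * t⁻¹ =
            (t * c * t⁻¹) * (t * u * t⁻¹) * (t * c * t⁻¹)⁻¹ * (t * u * t⁻¹)⁻¹ := by group
        rw [e1, hct] at h2
        rw [← h2]; group
      apply memK
      have h4 : c * (u⁻¹ * (t * u * t⁻¹)) * c⁻¹ = u⁻¹ * (t * u * t⁻¹) := by
        have e2 : c * (u⁻¹ * (t * u * t⁻¹)) * c⁻¹ = (c * u * c⁻¹)⁻¹ * (c * (t * u * t⁻¹) * c⁻¹) := by group
        rw [e2, h3]; group
      calc c * (u⁻¹ * (t * u * t⁻¹)) = (c * (u⁻¹ * (t * u * t⁻¹)) * c⁻¹) * c := by group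
        _ = u⁻¹ * (t * u * t⁻¹) * c := by rw [h4]
    -- (i)
    have hE : ∀ e ∈ V ⊓ Q i, e ∈ Kc := by
      intro e he
      obtain ⟨g, hg, n, hn, rfl⟩ := exists_of_fpf (H := V ⊓ Q i) (N := R i) t
        (fun x hx => mem_inf.mpr ⟨tV' x hx.1, tQi' x hx.2⟩) (fun x hx => by rw [tR' x hx]; exact hx)
        (fun x hx n hn => by
          rw [M.comm x hx.1 n (M.R_le i hn), mul_inv_cancel_right]; exact hn) T.tE e he
      exact Kc.mul_mem (hD g hg.2) (hRK n hn)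
    -- (ii)
    have hA : ∀ a ∈ Q i ⊓ centralizer (V : Set G), a ∈ Kc := by
      intro a ha
      obtain ⟨g, hg, n, hn, rfl⟩ := exists_of_fpf (H := Q i ⊓ centralizer (V : Set G))
        (N := (Q i ⊓ centralizer (V : Set G)) ⊓ W) t
        (fun x hx => mem_inf.mpr ⟨tQi' x hx.1, tC' x hx.2⟩)
        (fun x hx => mem_inf.mpr ⟨mem_inf.mpr ⟨tQi' x hx.1.1, tC' x hx.1.2⟩, by
          have h1 := tW x hx.2
          have h2 : t * x * t⁻¹ = (t * x * t⁻¹ * x⁻¹) * x := by group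
          rw [h2]; exact W.mul_mem (hVW h1) hx.2⟩)
        (fun x hx n hn => mem_inf.mpr ⟨mem_inf.mpr
          ⟨(Q i).mul_mem ((Q i).mul_mem hx.1 hn.1.1) ((Q i).inv_mem hx.1),
            mul_mem (mul_mem hx.2 hn.1.2) (inv_mem hx.2)⟩, M.Q_W' h hx.1 hn.2⟩)
        (fun x hx hn => mem_inf.mpr ⟨hx, by
          apply M.tor_fpf h T hx.1 hx.2
          have h1 := M.Q_W' h hx.1 hn.2
          have h2 : x * (x⁻¹ * (t * x * t⁻¹)) * x⁻¹ = t * x * t⁻¹ * x⁻¹ := by group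
          rw [h2] at h1
          exact h1⟩) a ha
      refine Kc.mul_mem (hD g hg.1) ?_
      obtain ⟨f, hf, v, hv, rfl⟩ := (M.mem_FF h).mp hn.2
      have h3 : v ∈ Q i := by
        have h4 := (Q i).mul_mem ((Q i).inv_mem hf.1) hn.1.1
        rwa [inv_mul_cancel_left] at h4
      exact Kc.mul_mem (hFK f hf) (hE v (mem_inf.mpr ⟨hv, h3⟩))
    -- (iii)
    have hQ : ∀ u ∈ Q i, u ∈ Kc := by
      intro u hu
      obtain ⟨g, hg, n, hn, rfl⟩ := exists_of_fpf (H := Q i) (N := Q i ⊓ centralizer (V : Set G)) t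
        tQi' (fun x hx => mem_inf.mpr ⟨tQi' x hx.1, tC' x hx.2⟩)
        (fun x hx n hn => mem_inf.mpr ⟨(Q i).mul_mem ((Q i).mul_mem hx hn.1) ((Q i).inv_mem hx),
          M.Q_cent hx hn.2⟩)
        (fun x hx hn => mem_inf.mpr ⟨hx, T.tU x hx hn.2⟩) u hu
      exact Kc.mul_mem (hD g hg) (hA n hn)
    refine hRQ c (M.cen i c hc.1 fun u hu => ?_) hc.2
    have := mem_centralizer_singleton_iff.mp (hQ u hu)
    first | exact this | exact this.symm
  -- `F = [F, t] ≤ V`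
  intro f hf
  have hfV : ∀ g ∈ Q i ⊓ Q j, g⁻¹ * (t * g * t⁻¹) ∈ V := by
    intro g hg
    have h1 := tW g (mem_sup_left hg)
    have h2 := M.meet_le_C h hg.1 hg.2
    have h3 : g⁻¹ * (t * g * t⁻¹) = g⁻¹ * (t * g * t⁻¹ * g⁻¹) * g := by group
    rw [h3, mul_assoc, (mem_centralizer_iff.mp h2) _ h1, inv_mul_cancel_left]
    exact h1
  obtain ⟨g, hg, n, hn, rfl⟩ := exists_of_fpf (H := Q i ⊓ Q j) (N := ⊥) t
    (fun x hx => mem_inf.mpr ⟨tQi' x hx.1, tQj' x hx.2⟩)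
    (fun x hx => by rw [mem_bot] at hx ⊢; rw [hx]; group)
    (fun x _ n hn => by rw [mem_bot] at hn ⊢; rw [hn]; group)
    (fun x hx hn => by
      rw [mem_bot] at hn ⊢
      exact hfix x hx (by
        have := inv_mul_eq_one.mp hn
        exact this.symm)) f hf
  rw [mem_bot] at hn
  rw [hn, mul_one]
  exact hfV g hg


end Mo

end Cfsg.Agent.Omega.NO1.BetaPlus

end

-- merged: Cfsg.Agent.Mrg.Omega.NO1.Tens.MoInst
section

section


/-!
# Type (γ) of the leaf N1: `Q_p ∩ Q_q ≤ V` for opposite points (helper914)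
-/

set_option autoImplicit false
set_option linter.unusedSectionVars false

namespace Cfsg.Agent.Omega.NO1.BetaPlus.Mv

open Subgroup
open Cfsg.Agent.Omega.NO1.Beta.Meet (cj mem_cj)

theorem cj_eq {G : Type*} [Group G] {g : G} {A B : Subgroup G} (h : Mv g A B) : cj g A = B := by
  ext x
  rw [mem_cj, h]
  have e : g * (g⁻¹ * x * g) * g⁻¹ = x := by group
  rw [e]

theorem of_cj {G : Type*} [Group G] {g : G} {A B : Subgroup G} (h : cj g A = B) : Mv g A B := by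
  intro x
  rw [← h, mem_cj]
  have e : g⁻¹ * (g * x * g⁻¹) * g = x := by group
  rw [e]

end Cfsg.Agent.Omega.NO1.BetaPlus.Mv

namespace Cfsg.Agent.Omega.NO1.PlusQ

open Subgroup Cfsg Matrix
open Cfsg.Agent.Omega.NO1.Tens
open Cfsg.Agent.Omega.NO1.BetaPlus (Mv QQ Bp Mo ToO)
open Cfsg.Agent.Omega.NO1.Beta.Meet (cj mem_cj)
open Cfsg.Agent.ZN (o2)

universe u

variable {G : Type u} [Group G] {F : Type} [Field F] {N V : Subgroup G}

variable {D : PlusQ F N V} [CharP F 2] [Finite G]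

theorem mv_mob (hN : ∀ m ∈ N, Mv m V V) {g : G} (hg : g ∈ N) {A B : SL F}
    (h : ∀ X, D.act g X = Tens.act A B X) (k l : Option F) : Mv g (D.R k l) (D.R (mob A k) (mob B l)) := by
  obtain ⟨T, hT, e⟩ := mob_spec A k
  obtain ⟨T', hT', e'⟩ := mob_spec B l
  have h1 := mv_RA hN hg h (rep k) (rep l)
  rw [e, e', RA_Bo _ _ hT hT'] at h1
  exact h1

/-- the points are different -/
theorem R_disj {i j k l : Option F} (h : D.R i j ⊓ D.R k l ≠ ⊥) : i = k ∧ j = l := by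
  obtain ⟨⟨w, hwm⟩, hw1⟩ := ne_bot_iff_exists_ne_one.1 h
  have hw1' : w ≠ 1 := fun e => hw1 (Subtype.ext e)
  obtain ⟨⟨hw, c, hc⟩, -, d, hd⟩ := hwm
  have hc0 : c ≠ 0 := by
    rintro rfl
    rw [e0_zero, act_zero] at hc
    exact hw1' (D.ker w hw hc)
  have h1 : Tens.act ((rep k)⁻¹ * rep i) ((rep l)⁻¹ * rep j) (e0 c) = e0 d := by
    rw [← act_act, ← hc, hd, Tens.act_inv_act]
  rw [act_e0] at h1
  set P := (rep k)⁻¹ * rep i with hP
  set P' := (rep l)⁻¹ * rep j with hP'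
  have h01 := congrArg (fun X : M2 F => X 0 1) h1
  have h10 := congrArg (fun X : M2 F => X 1 0) h1
  have h11 := congrArg (fun X : M2 F => X 1 1) h1
  simp [e0] at h01 h10 h11
  have d1 := SL_det P
  have d2 := SL_det P'
  have hB : Bo P := by
    by_contra hB
    have hB' : P.1 1 0 ≠ 0 := hB
    have e1 : P'.1 0 0 = 0 := by
      rcases h10 with h | h
      · rcases h with h | h
        · exact absurd h hB'
        · exact absurd h hc0
      · exact h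
    have e2 : P'.1 1 0 = 0 := by
      rcases h11 with h | h
      · rcases h with h | h
        · exact absurd h hB'
        · exact absurd h hc0
      · exact h
    rw [e1, e2] at d2
    simp at d2
  have hB2 : Bo P' := by
    have hB' : P.1 1 0 = 0 := hB
    show P'.1 1 0 = 0
    rcases h01 with h | h
    · rcases h with h | h
      · rw [h, hB'] at d1
        simp at d1
      · exact absurd h hc0
    · exact h
  exact ⟨(rep_inj hB).symm, (rep_inj hB2).symm⟩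

theorem R_ne_bot (i j : Option F) : D.R i j ≠ ⊥ := by
  intro h
  have h1 : D.v (Tens.act (rep i) (rep j) (e0 1)) ∈ D.R i j := ⟨D.v_mem _, 1, D.e_v _⟩
  rw [h, mem_bot] at h1
  have h2 : Tens.act (rep i) (rep j) (e0 1) = 0 := by
    rw [← D.e_v (Tens.act (rep i) (rep j) (e0 1)), h1, D.e_one]
  exact e0_ne one_ne_zero (act_eq_zero h2)

theorem R_inj {i j k l : Option F} (h : D.R i j = D.R k l) : i = k ∧ j = l :=
  R_disj (D := D) (by rw [h, inf_idem]; exact R_ne_bot k l)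

namespace Cx

variable [Finite F] (h : Cx D)
include h

/-- the action of `Q (i,j)` -/
theorem QU {i j : Option F} {y : G} (hy : y ∈ QQ (D.R i j)) :
    y ∈ N ∧ ∃ a b, ∀ X, D.act y X = Tens.act (ua i a) (ua j b) X := by
  obtain ⟨m, hm, hmA⟩ := lift_act (D := D) h.hN (rep i) (rep j)
  have hD := h.conj hm
  have e0 : (D.conj h.hN m hm).R0 = D.R i j := by
    rw [← RA_one, conj_RA h.hN hm hmA, mul_one, mul_one]; rfl
  rw [← e0] at hy
  obtain ⟨a, b, hab⟩ := hD.U hy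
  have hyN := hD.Q_N hy
  refine ⟨hyN, a, b, fun X => ?_⟩
  have h1 := hab (Tens.act (rep i)⁻¹ (rep j)⁻¹ X)
  rw [conj_act h.hN hm hmA hyN, Tens.act_act_inv] at h1
  have h2 := congrArg (Tens.act (rep i) (rep j)) h1
  rw [Tens.act_act_inv, act_act, act_act] at h2
  exact h2

theorem QU_surj (i j : Option F) (a b : F) :
    ∃ y ∈ QQ (D.R i j), ∀ X, D.act y X = Tens.act (ua i a) (ua j b) X := by
  obtain ⟨m, hm, hmA⟩ := lift_act (D := D) h.hN (rep i) (rep j)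
  have hD := h.conj hm
  have e0 : (D.conj h.hN m hm).R0 = D.R i j := by
    rw [← RA_one, conj_RA h.hN hm hmA, mul_one, mul_one]; rfl
  obtain ⟨y, hy, hab⟩ := hD.U_surj a b
  have hyN := hD.Q_N hy
  refine ⟨y, by rwa [← e0], fun X => ?_⟩
  have h1 := hab (Tens.act (rep i)⁻¹ (rep j)⁻¹ X)
  rw [conj_act h.hN hm hmA hyN, Tens.act_act_inv] at h1
  have h2 := congrArg (Tens.act (rep i) (rep j)) h1
  rw [Tens.act_act_inv, act_act, act_act] at h2
  exact h2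

/-- the elements of `Q ∞` -/
theorem dn_surj (a b : F) : ∃ y ∈ QQ D.R3, ∀ X, D.act y X = Tens.act (dn a) (dn b) X := by
  obtain ⟨y, hy, hab⟩ := h.QU_surj (some 0) (some 0) a b
  rw [R_zero] at hy
  refine ⟨y, hy, fun X => ?_⟩
  rw [hab, ua, ua, rep_zero, dn_eq, dn_eq]

/-- **The structure `Mo`.** -/
theorem mo (meet : ∀ W : Subgroup G, IsPGroup 2 W → W ≤ N →
    (∀ m ∈ N, ∀ y ∈ W, m * y * m⁻¹ ∈ W) → W ⊓ V = ⊥ → W = ⊥) :
    Mo V (fun p : Option F × Option F => D.R p.1 p.2) (fun p => QQ (D.R p.1 p.2)) Op := by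
  have B := bp h meet
  have hmove : ∀ {k l : Option F × Option F}, Op k l → ∀ {y}, y ∈ QQ (D.R k.1 k.2) →
      ∃ m : Option F × Option F, Op k m ∧ Mv y (D.R l.1 l.2) (D.R m.1 m.2) := by
    intro k l hkl y hy
    obtain ⟨hyN, a, b, hab⟩ := h.QU hy
    refine ⟨(mob (ua k.1 a) l.1, mob (ua k.2 b) l.2), ⟨fun e => hkl.1 ?_, fun e => hkl.2 ?_⟩,
      mv_mob h.hN hyN hab _ _⟩
    · simp only at e
      exact mob_inj (ua k.1 a) (by rw [mob_ua_self]; exact e)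
    · simp only at e
      exact mob_inj (ua k.2 b) (by rw [mob_ua_self]; exact e)
  refine
    { comm := B.comm
      R_le := B.R_le
      R_Q := B.R_Q
      RQ := B.RQ
      QQ := fun p y hy z hz => ?_
      Qsq := fun p y hy => (B.result p).2.2.2.1 y hy
      cen := fun p y hy hc => ?_
      Q_V := fun p y hy => (B.Q_V p hy).mem_nor
      nor := fun p c hc => (Mv.of_nor hc).QQ.cj_eq
      symm := fun {p q} hpq => B.symm p q hpq
      conn := B.conn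
      fixj := fun p q hpq y hy hc => ?_
      move := fun {k l} hkl {y} hy => ?_
      Q_of_R := fun {k l m y} hy hc => (Mv.of_cj hc).QQ.cj_eq
      tran := fun p q r hpq hpr => ?_
      RQj := fun p q hpq => ?_
      VE := fun p q hpq => ?_ }
  · have := (B.result p).2.2.1 y⁻¹ (inv_mem hy) z⁻¹ (inv_mem hz)
    rwa [inv_inv, inv_inv] at this
  · rw [← (B.result p).2.1]
    exact ⟨hy, mem_centralizer_iff.2 fun z hz => (hc z hz).symm⟩
  · obtain ⟨hyN, a, b, hab⟩ := h.QU hy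
    have h1 := mv_mob h.hN hyN hab q.1 q.2
    have h2 := R_inj (h1.cj_eq.symm.trans hc)
    have ha := ua_fix hpq.1.symm h2.1
    have hb := ua_fix hpq.2.symm h2.2
    rw [← act_one_iff (D := D) h.hN hyN]
    intro X
    rw [hab, ha, hb, ua_zero, ua_zero, act_one]
  · obtain ⟨m, h1, h2⟩ := hmove hkl hy
    exact ⟨m, h1, h2.cj_eq, h2.QQ.cj_eq⟩
  · obtain ⟨y, hy, h1⟩ := B.tran p q r hpq hpr
    exact ⟨y, hy, h1.cj_eq⟩
  · obtain ⟨D', m, A, B', T, T', S, S', hD, eR0, eR3, -⟩ := h.two hpq.1.symm hpq.2.symm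
    show D.R p.1 p.2 ⊓ QQ (D.R q.1 q.2) = ⊥
    rw [← eR0, ← eR3, eq_bot_iff]
    rintro w ⟨⟨hw, c, hc⟩, hwQ⟩
    rw [mem_bot]
    refine D'.ker w hw ?_
    have h1 := (hD.mem_E hw).1 hwQ
    rw [hc] at h1
    simp [e3] at h1
    rw [hc, h1, e3_zero]
  · obtain ⟨D', m, A, B', T, T', S, S', hD, eR0, eR3, -⟩ := h.two hpq.1 hpq.2
    show V ≤ (V ⊓ QQ (D.R p.1 p.2)) ⊔ D.R q.1 q.2
    rw [← eR0, ← eR3]
    exact hD.VE

/-- **The torus** at the two base points. -/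
theorem too : ∃ y y' z z', ToO V (fun p : Option F × Option F => D.R p.1 p.2)
    (fun p => QQ (D.R p.1 p.2)) Op (none, none) (some 0, some 0) y y' z z' := by
  obtain ⟨t, ht0, ht1⟩ := h.three
  set l : Fˣ := Units.mk0 t ht0 with hl
  have hlt : (l : F) = t := rfl
  obtain ⟨y, hy, hyA⟩ := h.U_surj (l : F) ((l⁻¹ : Fˣ) : F)
  obtain ⟨z, hz, hzA⟩ := h.U_surj 1 1
  obtain ⟨y', hy', hyA'⟩ := h.dn_surj ((l⁻¹ : Fˣ) : F) (l : F)
  obtain ⟨z', hz', hzA'⟩ := h.dn_surj 1 1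
  have hyN := h.Q_N hy
  have hzN := h.Q_N hz
  have hQ3 : QQ D.R3 ≤ N := by
    intro x hx
    rw [← R_zero] at hx
    exact (h.QU hx).1
  have hyN' := hQ3 hy'
  have hzN' := hQ3 hz'
  -- the torus element
  set w := (y * y' * y) * (z * z' * z) with hw
  have hwN : w ∈ N := mul_mem (mul_mem (mul_mem hyN hyN') hyN) (mul_mem (mul_mem hzN hzN') hzN)
  have htor := tor_eq l
  have htor' := tor_eq l⁻¹
  rw [inv_inv] at htor'
  have hwA : ∀ X, D.act w X = Tens.act (tor l) (tor l⁻¹) X := by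
    intro X
    rw [hw, act_mul h.hN (mul_mem (mul_mem hyN hyN') hyN) (mul_mem (mul_mem hzN hzN') hzN),
      act_mul h.hN (mul_mem hyN hyN') hyN, act_mul h.hN hyN hyN',
      act_mul h.hN (mul_mem hzN hzN') hzN, act_mul h.hN hzN hzN', hyA, hyA', hyA, hzA, hzA', hzA]
    simp only [act_act]
    rw [← htor, ← htor']
    congr 1 <;> group
  have hm0 : ∀ (a b : F), a ≠ 0 → b ≠ 0 → a * b = 1 → D.RA (up a * wy) (up b * wy) = D.RA (dn b) (dn a) := by
    intro a b ha hb hab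
    have e1 : up a * wy = dn b * ((dn b)⁻¹ * (up a * wy)) := by group
    have e2 : up b * wy = dn a * ((dn a)⁻¹ * (up b * wy)) := by group
    have key : ∀ a b : F, a * b = 1 → Bo ((dn b)⁻¹ * (up a * wy) : SL F) := by
      intro a b hab
      have e3 : (dn b : SL F)⁻¹ = dn b := by
        rw [dn_eq, _root_.mul_inv_rev, _root_.mul_inv_rev, inv_inv, up_inv]; group
      rw [e3]
      have e4 : (dn b * (up a * wy) : SL F).1 = (dn b).1 * ((up a).1 * wy.1) := rfl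
      rw [Bo, e4, dn_val, up_val, wy_val]
      simp only [Matrix.mul_apply, Fin.sum_univ_two]
      simp
      rw [mul_comm, hab]
      exact CharTwo.add_self_eq_zero 1
    rw [e1, e2, RA_Bo _ _ (key a b hab) (key b a (by rw [mul_comm]; exact hab))]
  have hmd : ∀ {x : G} {a b : F}, x ∈ N → (∀ X, D.act x X = Tens.act (dn a) (dn b) X) →
      Mv x D.R0 (D.RA (dn a) (dn b)) := by
    intro x a b hx hxA
    have := mv_RA h.hN hx hxA 1 1
    rwa [RA_one, mul_one, mul_one] at this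
  have hmu : ∀ {x : G} {a b : F}, x ∈ N → (∀ X, D.act x X = Tens.act (up a) (up b) X) →
      Mv x D.R3 (D.RA (up a * wy) (up b * wy)) := by
    intro x a b hx hxA
    have := mv_RA h.hN hx hxA wy wy
    rwa [RA_wy] at this
  have hl0 : ((l⁻¹ : Fˣ) : F) ≠ 0 := l⁻¹.ne_zero
  have hll : (l : F) * ((l⁻¹ : Fˣ) : F) = 1 := by simp
  have hlne : (l : F) ≠ ((l⁻¹ : Fˣ) : F) := by
    intro e
    rw [← e] at hll
    exact ht1 (eq_one_of_sq hll)
  refine ⟨y, y', z, z', ?_⟩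
  refine ⟨by rw [R_none]; exact hy, by rw [R_none]; exact hz, by rw [R_zero]; exact hy',
    by rw [R_zero]; exact hz', ?_, ?_, ?_, ?_, ?_, ?_⟩
  · show cj y (D.R (some 0) (some 0)) = cj y' (D.R none none)
    rw [R_zero, R_none, (hmu hyN hyA).cj_eq, (hmd hyN' hyA').cj_eq]
    exact hm0 _ _ l.ne_zero hl0 hll
  · show cj z (D.R (some 0) (some 0)) = cj z' (D.R none none)
    rw [R_zero, R_none, (hmu hzN hzA).cj_eq, (hmd hzN' hzA').cj_eq]
    exact hm0 _ _ one_ne_zero one_ne_zero (mul_one 1)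
  · -- `z⁻¹ y` moves `∞` to an opposite point
    have hzy : z⁻¹ * y ∈ QQ D.R0 := mul_mem (inv_mem hz) hy
    have ha : D.al (z⁻¹ * y) ≠ 0 := by
      rw [(h.al_mul (inv_mem hz) hy).1, (h.al_inv hz).1, (al_be hzA).1, (al_be hyA).1]
      intro e
      exact ht1 (CharTwo.add_eq_zero.1 e).symm
    have hb : D.be (z⁻¹ * y) ≠ 0 := by
      rw [(h.al_mul (inv_mem hz) hy).2, (h.al_inv hz).2, (al_be hzA).2, (al_be hyA).2]
      intro e
      have e1 := CharTwo.add_eq_zero.1 e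
      rw [← e1, mul_one] at hll
      exact ht1 hll
    obtain ⟨k', l', h1, h2, h3⟩ := h.half_mv (D' := D) (i := none) (j := none) (k := some 0) (l := some 0)
      (A := 1) (B := 1) (S := 1) (S' := 1) Bo.one Bo.one (by rw [rep_zero, one_mul, mul_one])
      (by rw [rep_zero, one_mul, mul_one]) h R_zero.symm (fun C E => by rw [one_mul, one_mul]) hzy ha hb
    exact ⟨(k', l'), ⟨h1, h2⟩, h3.cj_eq⟩
  · show ∀ r ∈ D.R none none, w * r = r * w
    rw [R_none]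
    rintro r ⟨hr, c, hc⟩
    have h1 : w * r * w⁻¹ = r := by
      refine D.e_inj ((h.hN w hwN r).1 hr) hr ?_
      rw [← act_e h.hN hwN hr, hc, hwA, act_tor_e0]
      simp
    calc w * r = (w * r * w⁻¹) * w := by group
      _ = r * w := by rw [h1]
  · show ∀ e ∈ V ⊓ QQ (D.R none none), e⁻¹ * (w * e * w⁻¹) ∈ D.R none none → e ∈ D.R none none
    rw [R_none]
    rintro e ⟨heV, heQ⟩ ⟨-, c, hc⟩
    have hwe : w * e * w⁻¹ ∈ V := (h.hN w hwN e).1 heV
    rw [D.mul _ (inv_mem heV) _ hwe, D.e_inv heV, ← act_e h.hN hwN heV, hwA, act_tor] at hc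
    have h01 := congrArg (fun X : M2 F => X 0 1) hc
    have h10 := congrArg (fun X : M2 F => X 1 0) hc
    simp [e0] at h01 h10
    have h11 := (h.mem_E heV).1 heQ
    have e1 : D.e e 0 1 = 0 := by
      have : ((l : F) * l + 1) * D.e e 0 1 = 0 := by
        have e2 : -D.e e 0 1 = D.e e 0 1 := CharTwo.neg_eq _
        rw [e2] at h01
        linear_combination h01
      rcases mul_eq_zero.1 this with h2 | h2
      · exact absurd (eq_one_of_sq (CharTwo.add_eq_zero.1 h2)) ht1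
      · exact h2
    have e2 : D.e e 1 0 = 0 := by
      have hl1 : (l : F)⁻¹ * (l : F)⁻¹ = 1 → False := by
        intro h2
        have h3 : (l : F)⁻¹ = 1 := eq_one_of_sq h2
        exact ht1 (inv_eq_one.1 h3)
      have : ((l : F)⁻¹ * (l : F)⁻¹ + 1) * D.e e 1 0 = 0 := by
        have e2 : -D.e e 1 0 = D.e e 1 0 := CharTwo.neg_eq _
        rw [e2] at h10
        linear_combination h10
      rcases mul_eq_zero.1 this with h2 | h2
      · exact absurd (CharTwo.add_eq_zero.1 h2) hl1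
      · exact h2
    exact ⟨heV, D.e e 0 0, by apply ext2 <;> simp [e0, e1, e2, h11]⟩
  · show ∀ u ∈ QQ (D.R none none), u⁻¹ * (w * u * w⁻¹) ∈ centralizer (V : Set G) → u ∈ centralizer (V : Set G)
    rw [R_none]
    intro u hu huC
    have hwR : Mv w D.R0 D.R0 := (fix_iff h.hN hwN).2 fun x => ⟨_, by rw [hwA, act_tor_e0]⟩
    have hwu : w * u * w⁻¹ ∈ QQ D.R0 := (hwR.QQ u).1 hu
    obtain ⟨e1, e2⟩ := al_be (D := D) (y := w * u * w⁻¹) (a := l * l * D.al u)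
      (b := (l⁻¹ : Fˣ) * (l⁻¹ : Fˣ) * D.be u) fun X => by
        rw [act_mul h.hN (mul_mem hwN (h.Q_N hu)) (inv_mem hwN), act_mul h.hN hwN (h.Q_N hu), h.act_y hu,
          hwA, tor_act_up]
        congr 1
        rw [← hwA, act_act_inv h.hN hwN]
    rw [h.mem_C_iff (mul_mem (inv_mem hu) hwu), (h.al_mul (inv_mem hu) hwu).1, (h.al_mul (inv_mem hu) hwu).2,
      (h.al_inv hu).1, (h.al_inv hu).2, e1, e2] at huC
    rw [h.mem_C_iff hu]
    constructor
    · have : ((l : F) * l + 1) * D.al u = 0 := by linear_combination huC.1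
      rcases mul_eq_zero.1 this with h2 | h2
      · exact absurd (eq_one_of_sq (CharTwo.add_eq_zero.1 h2)) ht1
      · exact h2
    · have : (((l⁻¹ : Fˣ) : F) * ((l⁻¹ : Fˣ) : F) + 1) * D.be u = 0 := by linear_combination huC.2
      rcases mul_eq_zero.1 this with h2 | h2
      · exfalso
        have h3 := eq_one_of_sq (CharTwo.add_eq_zero.1 h2)
        rw [h3, mul_one] at hll
        exact ht1 hll
      · exact h2

/-- **`Q_p ∩ Q_q ≤ V`** for opposite points -/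
theorem meet_le (meet : ∀ W : Subgroup G, IsPGroup 2 W → W ≤ N →
    (∀ m ∈ N, ∀ y ∈ W, m * y * m⁻¹ ∈ W) → W ⊓ V = ⊥ → W = ⊥) {i j k l : Option F} (h1 : i ≠ k) (h2 : j ≠ l) :
    QQ (D.R i j) ⊓ QQ (D.R k l) ≤ V := by
  -- move the pair to the base points
  obtain ⟨D', m, A, B, T, T', S, S', hD, eR0, eR3, -⟩ := h.two h1 h2
  obtain ⟨y, y', z, z', ht⟩ := hD.too
  have h3 := (hD.mo meet).meet_le (i := (none, none)) (j := (some 0, some 0)) ⟨by simp, by simp⟩ ht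
  simp only [R_none, R_zero] at h3
  rwa [eR0, eR3] at h3

end Cx

end Cfsg.Agent.Omega.NO1.PlusQ

end

section


/-!
# Type (γ) of the leaf N1: the structure `Grid` (helper914)
-/

set_option autoImplicit false
set_option linter.unusedSectionVars false

namespace Cfsg.Agent.Omega.NO1.PlusQ

open Subgroup Cfsg Matrix
open Cfsg.Agent.Omega.NO1.Tens
open Cfsg.Agent.Omega.NO1.BetaPlus (Mv QQ Bp Mo ToO)
open Cfsg.Agent.Omega.NO1.Beta.Meet (cj mem_cj)
open Cfsg.Agent.Omega.NO1.Gamma (Grid)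
open Cfsg.Agent.ZN (o2)

universe u

variable {G : Type u} [Group G] {F : Type} [Field F] {N V : Subgroup G}

variable {D : PlusQ F N V} [CharP F 2] [Finite G]

namespace Cx

variable [Finite F] (h : Cx D)
include h

theorem Bo_rel {i : Option F} {A T : SL F} (hT : Bo T) (e : A = rep i * T) : Bo (A⁻¹ * rep i) := by
  have e1 : A⁻¹ * rep i = T⁻¹ := by rw [e]; group
  rw [e1]; exact hT.inv

/-- the point `(i,j)` is orthogonal to `(i,l)` -/
theorem row_le (i j l : Option F) : D.R i j ≤ QQ (D.R i l) := by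
  obtain ⟨k, hk, -⟩ := exists_ne' i i h
  obtain ⟨l', hl', -⟩ := exists_ne' l l h
  obtain ⟨D', m, A, B, T, T', S, S', hD, eR0, eR3, hRA, hT, hT', hS, hS', eA, eB, eA', eB', hm, hmA, he, -⟩ :=
    h.two hk hl'
  rintro w ⟨hw, c, hc⟩
  rw [← eR0, hD.mem_E hw, he w hw, hc, act_act, act_e0]
  have h1 : (A⁻¹ * rep i).1 1 0 = 0 := h.Bo_rel hT eA
  simp [h1]

theorem col_le (i k j : Option F) : D.R i j ≤ QQ (D.R k j) := by
  obtain ⟨k', hk, -⟩ := exists_ne' k k h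
  obtain ⟨l', hl', -⟩ := exists_ne' j j h
  obtain ⟨D', m, A, B, T, T', S, S', hD, eR0, eR3, hRA, hT, hT', hS, hS', eA, eB, eA', eB', hm, hmA, he, -⟩ :=
    h.two hk hl'
  rintro w ⟨hw, c, hc⟩
  rw [← eR0, hD.mem_E hw, he w hw, hc, act_act, act_e0]
  have h1 : (B⁻¹ * rep j).1 1 0 = 0 := h.Bo_rel hT' eB
  simp [h1]

/-- `E = R_ij R_il R_kj` -/
theorem EE {i j k l : Option F} (hk : k ≠ i) (hl : l ≠ j) :
    V ⊓ QQ (D.R i j) ≤ (D.R i j ⊔ D.R i l) ⊔ D.R k j := by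
  obtain ⟨D', m, A, B, T, T', S, S', hD, eR0, eR3, hRA, hT, hT', hS, hS', eA, eB, eA', eB', hm, hmA, he, -⟩ :=
    h.two hk.symm hl.symm
  have e1 : D'.RA 1 wy = D.R i l := by
    rw [hRA, mul_one, eA, eB', RA_Bo _ _ hT hS']; rfl
  have e2 : D'.RA wy 1 = D.R k j := by
    rw [hRA, mul_one, eA', eB, RA_Bo _ _ hS hT']; rfl
  rintro w ⟨hw, hwQ'⟩
  have hwQ : D'.e w 1 1 = 0 := (hD.mem_E hw).1 (by rw [eR0]; exact hwQ')
  have e3 : w = D'.v (Tens.e0 (D'.e w 0 0)) * D'.v (Tens.e1 (D'.e w 0 1)) * D'.v (Tens.e2 (D'.e w 1 0)) := by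
    rw [← D'.v_add, ← D'.v_add]
    conv_lhs => rw [← D'.v_e hw, e_sum (D'.e w), hwQ, e3_zero, add_zero]
  rw [e3, ← eR0, ← e1, ← e2]
  refine mul_mem (mem_sup_left (mul_mem (mem_sup_left (v_e0 _)) (mem_sup_right ⟨D'.v_mem _, D'.e w 0 1, ?_⟩)))
    (mem_sup_right ⟨D'.v_mem _, D'.e w 1 0, ?_⟩)
  · rw [D'.e_v, act_e0]
    apply ext2 <;> simp [Tens.e1, wy_val]
  · rw [D'.e_v, act_e0]
    apply ext2 <;> simp [Tens.e2, wy_val]

theorem VE' {i j k l : Option F} (hk : i ≠ k) (hl : j ≠ l) : V ≤ (V ⊓ QQ (D.R i j)) ⊔ D.R k l := by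
  obtain ⟨D', m, A, B', T, T', S, S', hD, eR0, eR3, -⟩ := h.two hk hl
  rw [← eR0, ← eR3]
  exact hD.VE

/-- elements fixing the columns -/
theorem fixcol {i j : Option F} {x : G} (hx : x ∈ QQ (D.R i j)) (hc : ∀ l, cj x (D.R i l) = D.R i l) :
    x ∈ N ∧ ∃ a, ∀ X, D.act x X = Tens.act (ua i a) 1 X := by
  obtain ⟨hxN, a, b, hab⟩ := h.QU hx
  obtain ⟨l, hl, -⟩ := exists_ne' j j h
  have h1 := (mv_mob h.hN hxN hab i l).cj_eq
  rw [hc l] at h1
  have hb := ua_fix hl.symm (R_inj h1).2.symm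
  exact ⟨hxN, a, by rw [hb, ua_zero] at hab; exact hab⟩

theorem fixrow {i j : Option F} {x : G} (hx : x ∈ QQ (D.R i j)) (hc : ∀ k, cj x (D.R k j) = D.R k j) :
    x ∈ N ∧ ∃ b, ∀ X, D.act x X = Tens.act 1 (ua j b) X := by
  obtain ⟨hxN, a, b, hab⟩ := h.QU hx
  obtain ⟨k, hk, -⟩ := exists_ne' i i h
  have h1 := (mv_mob h.hN hxN hab k j).cj_eq
  rw [hc k] at h1
  have ha := ua_fix hk.symm (R_inj h1).1.symm
  exact ⟨hxN, b, by rw [ha, ua_zero] at hab; exact hab⟩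

theorem fixcol' {i : Option F} {x : G} (hxN : x ∈ N) {a : F} (hxA : ∀ X, D.act x X = Tens.act (ua i a) 1 X)
    (l : Option F) : cj x (D.R i l) = D.R i l := by
  have h1 := (mv_mob h.hN hxN hxA i l).cj_eq
  rwa [mob_ua_self, mob_one] at h1

theorem fixrow' {j : Option F} {x : G} (hxN : x ∈ N) {b : F} (hxA : ∀ X, D.act x X = Tens.act 1 (ua j b) X)
    (k : Option F) : cj x (D.R k j) = D.R k j := by
  have h1 := (mv_mob h.hN hxN hxA k j).cj_eq
  rwa [mob_ua_self, mob_one] at h1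

/-- root elements of the first factor in `⟨Q_kl⟩` -/
theorem gen₁ (A : SL F) (a : F) : ∃ g ∈ ⨆ k, ⨆ l, QQ (D.R k l), g ∈ N ∧
    ∀ X, D.act g X = Tens.act (A * up a * A⁻¹) 1 X := by
  obtain ⟨i, T, hT, e⟩ := exists_rep A
  obtain ⟨g, hg, hgA⟩ := h.QU_surj i none (T.1 0 0 * T.1 0 0 * a) 0
  refine ⟨g, mem_iSup_of_mem i (mem_iSup_of_mem none hg), (h.QU hg).1, fun X => ?_⟩
  rw [hgA, conj_up_eq hT e, ua_zero]

theorem gen₂ (A : SL F) (a : F) : ∃ g ∈ ⨆ k, ⨆ l, QQ (D.R k l), g ∈ N ∧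
    ∀ X, D.act g X = Tens.act 1 (A * up a * A⁻¹) X := by
  obtain ⟨i, T, hT, e⟩ := exists_rep A
  obtain ⟨g, hg, hgA⟩ := h.QU_surj none i 0 (T.1 0 0 * T.1 0 0 * a)
  refine ⟨g, mem_iSup_of_mem none (mem_iSup_of_mem i hg), (h.QU hg).1, fun X => ?_⟩
  rw [hgA, conj_up_eq hT e, ua_zero]

theorem gen_mul {X1 X2 : Subgroup G} {A A' B B' : SL F} (hX : X1 = X2)
    (h1 : ∃ g ∈ X1, g ∈ N ∧ ∀ X, D.act g X = Tens.act A B X)
    (h2 : ∃ g ∈ X1, g ∈ N ∧ ∀ X, D.act g X = Tens.act A' B' X) :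
    ∃ g ∈ X2, g ∈ N ∧ ∀ X, D.act g X = Tens.act (A * A') (B * B') X := by
  obtain ⟨g, hg, hgN, hgA⟩ := h1
  obtain ⟨g', hg', hgN', hgA'⟩ := h2
  subst hX
  exact ⟨g * g', mul_mem hg hg', mul_mem hgN hgN', fun X => by
    rw [act_mul h.hN hgN hgN', hgA, hgA', act_act]⟩

/-- torus elements of the first factor -/
theorem gtor₁ (i : Option F) (l : Fˣ) : ∃ g ∈ ⨆ k, ⨆ l, QQ (D.R k l), g ∈ N ∧
    ∀ X, D.act g X = Tens.act (rep i * tor l * (rep i)⁻¹) 1 X := by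
  have hu : ∀ a : F, ∃ g ∈ ⨆ k, ⨆ l, QQ (D.R k l), g ∈ N ∧
      ∀ X, D.act g X = Tens.act (rep i * up a * (rep i)⁻¹) 1 X := fun a => h.gen₁ _ a
  have hd : ∀ a : F, ∃ g ∈ ⨆ k, ⨆ l, QQ (D.R k l), g ∈ N ∧
      ∀ X, D.act g X = Tens.act (rep i * dn a * (rep i)⁻¹) 1 X := fun a => by
    obtain ⟨g, h1, h2, h3⟩ := h.gen₁ (rep i * wy) a
    refine ⟨g, h1, h2, fun X => ?_⟩
    rw [h3, dn_eq]
    congr 1; group
  have h1 := h.gen_mul rfl (h.gen_mul rfl (h.gen_mul rfl (hu (l : F)) (hd ((l⁻¹ : Fˣ) : F))) (hu (l : F)))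
    (h.gen_mul rfl (h.gen_mul rfl (hu 1) (hd 1)) (hu 1))
  obtain ⟨g, h2, h3, h4⟩ := h1
  refine ⟨g, h2, h3, fun X => ?_⟩
  rw [h4, ← tor_eq]
  congr 1
  · group
  · group

theorem gtor₂ (i : Option F) (l : Fˣ) : ∃ g ∈ ⨆ k, ⨆ l, QQ (D.R k l), g ∈ N ∧
    ∀ X, D.act g X = Tens.act 1 (rep i * tor l * (rep i)⁻¹) X := by
  have hu : ∀ a : F, ∃ g ∈ ⨆ k, ⨆ l, QQ (D.R k l), g ∈ N ∧
      ∀ X, D.act g X = Tens.act 1 (rep i * up a * (rep i)⁻¹) X := fun a => h.gen₂ _ a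
  have hd : ∀ a : F, ∃ g ∈ ⨆ k, ⨆ l, QQ (D.R k l), g ∈ N ∧
      ∀ X, D.act g X = Tens.act 1 (rep i * dn a * (rep i)⁻¹) X := fun a => by
    obtain ⟨g, h1, h2, h3⟩ := h.gen₂ (rep i * wy) a
    refine ⟨g, h1, h2, fun X => ?_⟩
    rw [h3, dn_eq]
    congr 1; group
  have h1 := h.gen_mul rfl (h.gen_mul rfl (h.gen_mul rfl (hu (l : F)) (hd ((l⁻¹ : Fˣ) : F))) (hu (l : F)))
    (h.gen_mul rfl (h.gen_mul rfl (hu 1) (hd 1)) (hu 1))
  obtain ⟨g, h2, h3, h4⟩ := h1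
  refine ⟨g, h2, h3, fun X => ?_⟩
  rw [h4, ← tor_eq]
  congr 1
  · group
  · group

theorem tor_ua (i : Option F) (l : Fˣ) (a : F) :
    rep i * tor l * (rep i)⁻¹ * ua i a * (rep i * tor l * (rep i)⁻¹)⁻¹ * (ua i a)⁻¹ =
      ua i ((l * l + 1) * a) := by
  have _ := h
  rw [ua_inv, ua, ua]
  have e1 : rep i * tor l * (rep i)⁻¹ * (rep i * up a * (rep i)⁻¹) * (rep i * tor l * (rep i)⁻¹)⁻¹ *
      (rep i * up a * (rep i)⁻¹) = rep i * (tor l * up a * (tor l)⁻¹ * up a) * (rep i)⁻¹ := by group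
  rw [e1, tor_up, mul_inv_cancel_right, ← up_add, add_mul, one_mul]

theorem tor₁ (i j : Option F) : ∃ g ∈ ⨆ k, ⨆ l, QQ (D.R k l), (∀ l, cj g (D.R i l) = D.R i l) ∧
    ∀ x ∈ QQ (D.R i j), (∀ l, cj x (D.R i l) = D.R i l) → ∃ z ∈ QQ (D.R i j), (∀ l, cj z (D.R i l) = D.R i l) ∧
      x⁻¹ * (g * z * g⁻¹ * z⁻¹) ∈ centralizer (V : Set G) := by
  obtain ⟨t, ht0, ht1⟩ := h.three
  set l : Fˣ := Units.mk0 t ht0 with hl
  have hlt : (l : F) = t := rfl
  obtain ⟨g, hg, hgN, hgA⟩ := h.gtor₁ i l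
  have hll : (l : F) * l + 1 ≠ 0 := fun e => ht1 (eq_one_of_sq (CharTwo.add_eq_zero.1 e))
  refine ⟨g, hg, fun m => ?_, fun x hx hxc => ?_⟩
  · have h1 := (mv_mob h.hN hgN hgA i m).cj_eq
    have h2 : mob (rep i * tor l * (rep i)⁻¹) i = i :=
      mob_eq (T := tor l) (by simp [Bo, tor_val]) (by group)
    rwa [h2, mob_one] at h1
  · obtain ⟨hxN, a, hxA⟩ := h.fixcol hx hxc
    obtain ⟨z, hz, hzA⟩ := h.QU_surj i j (a / (l * l + 1)) 0
    rw [ua_zero] at hzA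
    have hzN := (h.QU hz).1
    refine ⟨z, hz, fun m => h.fixcol' hzN hzA m, ?_⟩
    have hgz : g * z * g⁻¹ * z⁻¹ ∈ N := mul_mem (mul_mem (mul_mem hgN hzN) (inv_mem hgN)) (inv_mem hzN)
    rw [← act_one_iff (D := D) h.hN (mul_mem (inv_mem hxN) hgz)]
    intro X
    rw [act_mul h.hN (inv_mem hxN) hgz, act_mul h.hN (mul_mem (mul_mem hgN hzN) (inv_mem hgN)) (inv_mem hzN),
      act_mul h.hN (mul_mem hgN hzN) (inv_mem hgN), act_mul h.hN hgN hzN, act_inv_of h.hN hxN hxA,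
      act_inv_of h.hN hgN hgA, act_inv_of h.hN hzN hzA, hgA, hzA, act_act, act_act, act_act, act_act]
    have e1 : (ua i a)⁻¹ * (rep i * tor l * (rep i)⁻¹) * ua i (a / (l * l + 1)) *
        (rep i * tor l * (rep i)⁻¹)⁻¹ * (ua i (a / (l * l + 1)))⁻¹ = 1 := by
      have := h.tor_ua i l (a / (l * l + 1))
      rw [mul_div_cancel₀ _ hll] at this
      rw [mul_assoc, mul_assoc, mul_assoc, inv_mul_eq_one, ← this]; group
    simp only [inv_one, mul_one]
    rw [e1, act_one]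

theorem tor₂ (i j : Option F) : ∃ g ∈ ⨆ k, ⨆ l, QQ (D.R k l), (∀ k, cj g (D.R k j) = D.R k j) ∧
    ∀ x ∈ QQ (D.R i j), (∀ k, cj x (D.R k j) = D.R k j) → ∃ z ∈ QQ (D.R i j), (∀ k, cj z (D.R k j) = D.R k j) ∧
      x⁻¹ * (g * z * g⁻¹ * z⁻¹) ∈ centralizer (V : Set G) := by
  obtain ⟨t, ht0, ht1⟩ := h.three
  set l : Fˣ := Units.mk0 t ht0 with hl
  have hlt : (l : F) = t := rfl
  obtain ⟨g, hg, hgN, hgA⟩ := h.gtor₂ j l
  have hll : (l : F) * l + 1 ≠ 0 := fun e => ht1 (eq_one_of_sq (CharTwo.add_eq_zero.1 e))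
  refine ⟨g, hg, fun m => ?_, fun x hx hxc => ?_⟩
  · have h1 := (mv_mob h.hN hgN hgA m j).cj_eq
    have h2 : mob (rep j * tor l * (rep j)⁻¹) j = j :=
      mob_eq (T := tor l) (by simp [Bo, tor_val]) (by group)
    rwa [h2, mob_one] at h1
  · obtain ⟨hxN, a, hxA⟩ := h.fixrow hx hxc
    obtain ⟨z, hz, hzA⟩ := h.QU_surj i j 0 (a / (l * l + 1))
    rw [ua_zero] at hzA
    have hzN := (h.QU hz).1
    refine ⟨z, hz, fun m => h.fixrow' hzN hzA m, ?_⟩
    have hgz : g * z * g⁻¹ * z⁻¹ ∈ N := mul_mem (mul_mem (mul_mem hgN hzN) (inv_mem hgN)) (inv_mem hzN)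
    rw [← act_one_iff (D := D) h.hN (mul_mem (inv_mem hxN) hgz)]
    intro X
    rw [act_mul h.hN (inv_mem hxN) hgz, act_mul h.hN (mul_mem (mul_mem hgN hzN) (inv_mem hgN)) (inv_mem hzN),
      act_mul h.hN (mul_mem hgN hzN) (inv_mem hgN), act_mul h.hN hgN hzN, act_inv_of h.hN hxN hxA,
      act_inv_of h.hN hgN hgA, act_inv_of h.hN hzN hzA, hgA, hzA, act_act, act_act, act_act, act_act]
    have e1 : (ua j a)⁻¹ * (rep j * tor l * (rep j)⁻¹) * ua j (a / (l * l + 1)) *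
        (rep j * tor l * (rep j)⁻¹)⁻¹ * (ua j (a / (l * l + 1)))⁻¹ = 1 := by
      have := h.tor_ua j l (a / (l * l + 1))
      rw [mul_div_cancel₀ _ hll] at this
      rw [mul_assoc, mul_assoc, mul_assoc, inv_mul_eq_one, ← this]; group
    simp only [inv_one, mul_one]
    rw [e1, act_one]

/-- **The structure `Grid`.** -/
theorem grid (meet : ∀ W : Subgroup G, IsPGroup 2 W → W ≤ N →
    (∀ m ∈ N, ∀ y ∈ W, m * y * m⁻¹ ∈ W) → W ⊓ V = ⊥ → W = ⊥) :
    Grid V (fun i j => D.R i j) (fun i j => QQ (D.R i j)) where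
  comm a ha b hb := D.comm ha hb
  V_sq a ha := D.sq ha
  R_le i j := RA_le _ _
  ne i j := R_ne_bot i j
  row i j l := h.row_le i j l
  col i k j := h.col_le i k j
  disj i j k l hd := R_disj hd
  QQ i j := (h.mo meet).QQ (i, j)
  Qsq i j := (h.mo meet).Qsq (i, j)
  RQ i j := (h.mo meet).RQ (i, j)
  cen i j := (h.mo meet).cen (i, j)
  Q_V i j := (h.mo meet).Q_V (i, j)
  conj y i j k l he := (Mv.of_cj he).QQ.cj_eq
  perm i j y hy := by
    obtain ⟨hyN, a, b, hab⟩ := h.QU hy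
    exact ⟨mob (ua i a), mob (ua j b), mob_ua_self i a, mob_ua_self j b, fun k l =>
      (mv_mob h.hN hyN hab k l).cj_eq⟩
  fix i j k l hk hl y hy he := (h.mo meet).fixj (i, j) (k, l) ⟨hk.symm, hl.symm⟩ y hy he
  tran i j k l k' l' hk hk' hl hl' := by
    obtain ⟨y, hy, h1⟩ := h.tran hk.symm hl.symm hk'.symm hl'.symm
    exact ⟨y, hy, h1.cj_eq⟩
  meet i j k l hk hl := h.meet_le meet hk.symm hl.symm
  RQj i j k l hk hl := (h.mo meet).RQj (i, j) (k, l) ⟨hk.symm, hl.symm⟩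
  VE₁ i j l hjl := by
    obtain ⟨k, hk, -⟩ := exists_ne' i i h
    refine (h.VE' hk hjl).trans (sup_le_sup_left (le_inf (RA_le _ _) (h.col_le k i l)) _)
  VE₂ i k j hik := by
    obtain ⟨l, hl, -⟩ := exists_ne' j j h
    refine (h.VE' hik hl).trans (sup_le_sup_left (le_inf (RA_le _ _) (h.row_le k l j)) _)
  VE i j k l hik hjl := (h.VE' hik hjl).trans (sup_le_sup_left (le_inf (RA_le _ _) (h.row_le k l l)) _)
  EE i j k l hk hl := h.EE hk hl
  threeI i k := by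
    obtain ⟨c, h1, h2⟩ := exists_ne' i k h
    exact ⟨c, h1.symm, h2⟩
  threeJ i k := by
    obtain ⟨c, h1, h2⟩ := exists_ne' i k h
    exact ⟨c, h1.symm, h2⟩
  act₁ i j j' x hx hxc := by
    obtain ⟨hxN, a, hxA⟩ := h.fixcol hx hxc
    obtain ⟨y, hy, hyA⟩ := h.QU_surj i j' a 0
    rw [ua_zero] at hyA
    have hyN := (h.QU hy).1
    refine ⟨y, hy, fun l => h.fixcol' hyN hyA l, ?_⟩
    rw [← act_one_iff (D := D) h.hN (mul_mem (inv_mem hyN) hxN)]
    intro X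
    rw [act_mul h.hN (inv_mem hyN) hxN, hxA, act_inv_of h.hN hyN hyA, Tens.act_inv_act]
  act₂ j i i' x hx hxc := by
    obtain ⟨hxN, a, hxA⟩ := h.fixrow hx hxc
    obtain ⟨y, hy, hyA⟩ := h.QU_surj i' j 0 a
    rw [ua_zero] at hyA
    have hyN := (h.QU hy).1
    refine ⟨y, hy, fun l => h.fixrow' hyN hyA l, ?_⟩
    rw [← act_one_iff (D := D) h.hN (mul_mem (inv_mem hyN) hxN)]
    intro X
    rw [act_mul h.hN (inv_mem hyN) hxN, hxA, act_inv_of h.hN hyN hyA, Tens.act_inv_act]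
  tor₁ i j := h.tor₁ i j
  tor₂ i j := h.tor₂ i j

end Cx

end Cfsg.Agent.Omega.NO1.PlusQ

end

section


/-!
# Type (γ) of the leaf N1: `T1`, `T2` and products (helper914)
-/

set_option autoImplicit false
set_option linter.unusedSectionVars false

namespace Cfsg.Agent.Omega.NO1.Tens

variable {F : Type} [Field F] {γ δ : M2 F → M2 F}

theorem T11 (h : T1 γ) (h' : T1 δ) : T1 (fun X => γ (δ X)) := by
  constructor
  · intro A
    obtain ⟨A', h1⟩ := h'.1 A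
    obtain ⟨A'', h2⟩ := h.1 A'
    exact ⟨A'', fun X => by beta_reduce; rw [h1, h2]⟩
  · intro A
    obtain ⟨A', h1⟩ := h'.2 A
    obtain ⟨A'', h2⟩ := h.2 A'
    exact ⟨A'', fun X => by beta_reduce; rw [h1, h2]⟩

theorem T12 (h : T1 γ) (h' : T2 δ) : T2 (fun X => γ (δ X)) := by
  constructor
  · intro A
    obtain ⟨A', h1⟩ := h'.1 A
    obtain ⟨A'', h2⟩ := h.2 A'
    exact ⟨A'', fun X => by beta_reduce; rw [h1, h2]⟩
  · intro A
    obtain ⟨A', h1⟩ := h'.2 A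
    obtain ⟨A'', h2⟩ := h.1 A'
    exact ⟨A'', fun X => by beta_reduce; rw [h1, h2]⟩

theorem T21 (h : T2 γ) (h' : T1 δ) : T2 (fun X => γ (δ X)) := by
  constructor
  · intro A
    obtain ⟨A', h1⟩ := h'.1 A
    obtain ⟨A'', h2⟩ := h.1 A'
    exact ⟨A'', fun X => by beta_reduce; rw [h1, h2]⟩
  · intro A
    obtain ⟨A', h1⟩ := h'.2 A
    obtain ⟨A'', h2⟩ := h.2 A'
    exact ⟨A'', fun X => by beta_reduce; rw [h1, h2]⟩

theorem T22 (h : T2 γ) (h' : T2 δ) : T1 (fun X => γ (δ X)) := by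
  constructor
  · intro A
    obtain ⟨A', h1⟩ := h'.1 A
    obtain ⟨A'', h2⟩ := h.2 A'
    exact ⟨A'', fun X => by beta_reduce; rw [h1, h2]⟩
  · intro A
    obtain ⟨A', h1⟩ := h'.2 A
    obtain ⟨A'', h2⟩ := h.1 A'
    exact ⟨A'', fun X => by beta_reduce; rw [h1, h2]⟩

theorem T2_iter (h : T2 γ) (k : ℕ) : T2 (γ^[2 * k + 1]) := by
  induction k with
  | zero => simpa using h
  | succ k ih =>
    have e : γ^[2 * (k + 1) + 1] = fun X => γ^[2 * k + 1] (γ (γ X)) := by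
      have e1 : 2 * (k + 1) + 1 = (2 * k + 1) + 1 + 1 := by ring
      rw [e1, Function.iterate_succ, Function.iterate_succ]; rfl
    rw [e]
    exact T21 ih (T22 h h)

end Cfsg.Agent.Omega.NO1.Tens

namespace Cfsg.Agent.Omega.NO1.PlusQ

open Subgroup Cfsg Matrix
open Cfsg.Agent.Omega.NO1.Tens
open Cfsg.Agent.Omega.NO1.BetaPlus (Mv QQ)

universe u

variable {G : Type u} [Group G] {F : Type} [Field F] {N V : Subgroup G} {D : PlusQ F N V} [CharP F 2]

section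

variable (hN : ∀ m ∈ N, Mv m V V) {t : F} (ht0 : t ≠ 0) (ht1 : t ≠ 1)
include hN

theorem act_one_eq (X : M2 F) : D.act 1 X = X := by
  have _ := hN
  rw [act]
  have e : 1 * D.v X * (1 : G)⁻¹ = D.v X := by group
  rw [e, D.e_v]

theorem act_conj {g s : G} (hg : g ∈ N) (hs : s ∈ N) : D.act (g * s * g⁻¹) = fun X =>
    D.act g (D.act s (D.act g⁻¹ X)) := by
  funext X
  rw [act_mul hN (mul_mem hg hs) (inv_mem hg), act_mul hN hg hs]

include ht0 ht1

/-- conjugates of `T2`-elements -/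
theorem T2_conj {g s : G} (hg : g ∈ N) (hs : s ∈ N) (h : T2 (D.act s)) : T2 (D.act (g * s * g⁻¹)) := by
  rw [act_conj hN hg hs]
  have hm := nm (D := D) hN hg
  rcases hm.dich ht0 ht1 with hT | hT
  · exact T12 hT (T21 h (hm.T1_symm hT))
  · exact T21 hT (T22 h (hm.T2_symm hT))

/-- `U₀` is normalised by the stabiliser of the point `0` -/
theorem U_conj {g x : G} (hg : g ∈ N) (hx : x ∈ N) (h0 : ∀ x, ∃ y, D.act g (e0 x) = e0 y) {a b : F}
    (h : ∀ X, D.act x X = Tens.act (up a) (up b) X) :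
    ∃ a' b', ∀ X, D.act (g * x * g⁻¹) X = Tens.act (up a') (up b') X := by
  have hm := nm (D := D) hN hg
  rcases hm.dich ht0 ht1 with hT | hT
  · obtain ⟨a', h1⟩ := hm.un1_left hT h0 a
    obtain ⟨b', h2⟩ := hm.un1_right hT h0 b
    refine ⟨a', b', fun X => ?_⟩
    rw [act_conj hN hg hx]
    show D.act g (D.act x (D.act g⁻¹ X)) = _
    rw [h, act_split, h1, h2, hm.right, ← act_split]
  · obtain ⟨a', h1⟩ := hm.un2_left hT h0 a
    obtain ⟨b', h2⟩ := hm.un2_right hT h0 b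
    refine ⟨b', a', fun X => ?_⟩
    rw [act_conj hN hg hx]
    show D.act g (D.act x (D.act g⁻¹ X)) = _
    rw [h, act_split, h1, h2, hm.right, ← act_split']

end

end Cfsg.Agent.Omega.NO1.PlusQ

end

end

-- merged: Cfsg.Agent.Mrg.Omega.NO1.Tens.App
section

/-!
# Type (γ) of the leaf N1: the application (helper914)

`Sy D S Z` : `S ≤ N` a Sylow 2-subgroup, `Z = Ω₁(Z(S)) ≤ V`, characteristic 2, `V ≰ O₂(C(Z))`, `|V : V ∩ O₂(C(Z))| ≥ 4`.
Then, after moving the coordinates, `S` fixes `D.R0`, `Z ≤ D.R0` and `Cx D` holds (`Sy.main`).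
-/

set_option autoImplicit false
set_option linter.unusedSectionVars false
set_option linter.unusedVariables false

namespace Cfsg.Agent.Omega.NO1.PlusQ

open Subgroup Cfsg Matrix
open Cfsg.Agent.Omega.NO1.Tens
open Cfsg.Agent.Omega.NO1.BetaPlus (Mv QQ)
open Cfsg.Agent.Omega.NO1.Beta.Meet (cj mem_cj cj_mul)
open Cfsg.Agent.Omega.NO1.Beta.Inst (exists_conj_mem le_sylow cj_one)
open Cfsg.Agent.ZN (o2)
open scoped Pointwise

universe u

variable {G : Type u} [Group G] {F : Type} [Field F] {N V : Subgroup G} {D : PlusQ F N V} [CharP F 2]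

/-! ### `S` fixes a point -/

section fixed

variable [Finite G] (hN : ∀ m ∈ N, Mv m V V) (three : ∃ t : F, t ≠ 0 ∧ t ≠ 1)
include hN three

theorem perm0 {g : G} (hg : g ∈ N) (i j : Option F) : ∃ k l, Mv g (D.R i j) (D.R k l) := by
  obtain ⟨t, ht0, ht1⟩ := three
  obtain ⟨a, ha, haA⟩ := lift_act (D := D) hN (rep i) (rep j)
  have hag : g * a ∈ N := mul_mem hg ha
  obtain ⟨A, B, c, hc⟩ := exists_e0 ((nm (D := D) hN hag).det_eq_zero ht0 ht1 (det_e0 1))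
  obtain ⟨b, hb, hbA⟩ := lift_act (D := D) hN A B
  have hmem : b⁻¹ * (g * a) ∈ N := mul_mem (inv_mem hb) hag
  have h0 : D.act (b⁻¹ * (g * a)) (e0 1) = e0 c := by
    rw [act_mul hN (inv_mem hb) hag, hc, act_inv_of hN hb hbA, Tens.act_inv_act]
  have h1 := (fix_iff hN hmem).2 ((nm (D := D) hN hmem).fix0 ht0 ht1 one_ne_zero h0)
  have h2 := mv_RA hN ha haA 1 1
  have h3 := mv_RA hN hb hbA 1 1
  rw [mul_one, mul_one, RA_one] at h2 h3
  have h4 := (h3.mul h1).mul h2.inv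
  have e : b * (b⁻¹ * (g * a)) * a⁻¹ = g := by group
  rw [e] at h4
  obtain ⟨k, l, -, -, -, -, -, -, e2⟩ := exists_R (D := D) A B
  rw [e2] at h4
  exact ⟨k, l, h4⟩

/-- the set of points -/
def Pt (D : PlusQ F N V) : Type _ := {R : Subgroup G // ∃ i j, R = D.R i j}

theorem card_Pt [Finite F] : Nat.card (Pt D) = (Nat.card F + 1) * (Nat.card F + 1) := by
  have h1 : Function.Bijective (fun p : Option F × Option F => (⟨D.R p.1 p.2, p.1, p.2, rfl⟩ : Pt D)) := by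
    constructor
    · rintro ⟨i, j⟩ ⟨k, l⟩ h
      have h2 := R_inj (congrArg Subtype.val h)
      exact Prod.ext h2.1 h2.2
    · rintro ⟨R, i, j, rfl⟩
      exact ⟨(i, j), rfl⟩
  have h2 : Nat.card (Option F × Option F) = Nat.card (Pt D) := Nat.card_congr (Equiv.ofBijective _ h1)
  rw [← h2, Nat.card_prod, Finite.card_option]

/-- the action of `S ≤ N` on the points -/
@[instance_reducible] def actPt {S : Subgroup G} (hS : S ≤ N) : MulAction S (Pt D) where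
  smul s i := ⟨cj (s : G) i.1, by
    obtain ⟨k, l, he⟩ := i.2
    obtain ⟨k', l', h1⟩ := perm0 (D := D) hN three (hS s.2) k l
    exact ⟨k', l', by rw [he, h1.cj_eq]⟩⟩
  one_smul i := Subtype.ext (cj_one _)
  mul_smul s t i := Subtype.ext (cj_mul _ _ _)

theorem exists_fixed [Finite F] {S : Subgroup G} (hS : S ≤ N) (h2 : IsPGroup 2 S) :
    ∃ i j, ∀ s ∈ S, cj s (D.R i j) = D.R i j := by
  have : Fact (Nat.Prime 2) := ⟨Nat.prime_two⟩
  let _ := actPt (D := D) hN three hS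
  have h1 : ¬ 2 ∣ Nat.card (Pt D) := by
    rw [card_Pt (D := D) hN three]
    have h3 := Beta.Inst.two_dvd_card (K := F)
    obtain ⟨k, hk⟩ := h3
    rw [hk]
    intro h4
    rcases (Nat.Prime.dvd_mul Nat.prime_two).1 h4 with h5 | h5 <;> omega
  have : Finite (Pt D) := by
    have : Finite (Subgroup G) := inferInstance
    exact inferInstanceAs (Finite {R : Subgroup G // ∃ i j, R = D.R i j})
  obtain ⟨x, hx⟩ := h2.nonempty_fixed_point_of_prime_not_dvd_card (Pt D) h1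
  obtain ⟨i, j, he⟩ := x.2
  refine ⟨i, j, fun s hs => ?_⟩
  rw [← he]
  have h3 := hx ⟨s, hs⟩
  exact congrArg Subtype.val h3

end fixed

/-! ### `S` covers `U₀` and contains a swap -/

section cover

variable [Finite G] (hN : ∀ m ∈ N, Mv m V V) {t : F} (ht0 : t ≠ 0) (ht1 : t ≠ 1)

/-- the elements inducing elements of `U₀` -/
def Wg (D : PlusQ F N V) (hN : ∀ m ∈ N, Mv m V V) : Subgroup G where
  carrier := {g | g ∈ N ∧ ∃ a b, ∀ X, D.act g X = Tens.act (up a) (up b) X}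
  one_mem' := ⟨one_mem _, 0, 0, fun X => by rw [up_zero, act_one, act_one_eq hN]⟩
  mul_mem' := by
    rintro x y ⟨hx, a, b, h1⟩ ⟨hy, c, d, h2⟩
    exact ⟨mul_mem hx hy, a + c, b + d, fun X => by rw [act_mul hN hx hy, h2, h1, act_act, up_add, up_add]⟩
  inv_mem' := by
    rintro x ⟨hx, a, b, h1⟩
    refine ⟨inv_mem hx, a, b, fun X => ?_⟩
    rw [act_inv_of hN hx h1, up_inv, up_inv]

include hN

theorem odd_pow {g : G} (hg : g ∈ N) {a b : F} (h : ∀ X, D.act g X = Tens.act (up a) (up b) X) (k : ℕ) (X : M2 F) :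
    D.act (g ^ (2 * k + 1)) X = Tens.act (up a) (up b) X := by
  rw [← act_pow hN hg]
  have h1 : ∀ X, (D.act g)^[2 * k] X = X := by
    intro X
    have h2 : (D.act g)^[2] = id := by
      funext X
      show D.act g (D.act g X) = X
      rw [h, h, act_up_up]
    rw [Function.iterate_mul, h2, Function.iterate_id]; rfl
  rw [Function.iterate_succ_apply, h1, h]

theorem exists_odd (g : G) : ∃ k n : ℕ, (g ^ (2 * k + 1)) ^ 2 ^ n = 1 := by
  have _ := hN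
  have h0 : orderOf g ≠ 0 := (orderOf_pos g).ne'
  obtain ⟨n, m, ⟨k, hk⟩, he⟩ := Nat.exists_eq_two_pow_mul_odd h0
  refine ⟨k, n, ?_⟩
  rw [← hk, ← pow_mul, mul_comm m, ← he]
  exact pow_orderOf_eq_one g

include ht0 ht1

/-- **`S` covers `U₀`.** -/
theorem cover_S (S : Sylow 2 G) (hS : (S : Subgroup G) ≤ N)
    (hR : ∀ s ∈ (S : Subgroup G), Mv s D.R0 D.R0) (a b : F) :
    ∃ s ∈ (S : Subgroup G), ∀ X, D.act s X = Tens.act (up a) (up b) X := by
  obtain ⟨g, hg, hgA⟩ := lift_act (D := D) hN (up a) (up b)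
  obtain ⟨k, n, hkn⟩ := exists_odd hN g
  have h1 := odd_pow hN hg hgA k
  have h1N : g ^ (2 * k + 1) ∈ N := pow_mem hg _
  have h1W : g ^ (2 * k + 1) ∈ Wg D hN := ⟨h1N, a, b, h1⟩
  have hconj : ∀ s ∈ (S : Subgroup G), ∀ y ∈ Wg D hN, s * y * s⁻¹ ∈ Wg D hN := by
    rintro s hs y ⟨hy, c, d, hcd⟩
    refine ⟨mul_mem (mul_mem (hS hs) hy) (inv_mem (hS hs)), ?_⟩
    exact U_conj hN ht0 ht1 (hS hs) hy ((fix_iff hN (hS hs)).1 (hR s hs)) hcd
  have hSW : (S : Subgroup G) ≤ normalizer (Wg D hN : Set G) := by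
    intro s hs
    rw [mem_normalizer_iff]
    intro y
    refine ⟨fun hy => hconj s hs y hy, fun hy => ?_⟩
    have := hconj s⁻¹ (inv_mem hs) _ hy
    have e : s⁻¹ * (s * y * s⁻¹) * s⁻¹⁻¹ = y := by group
    rwa [e] at this
  obtain ⟨l, hl, hlS⟩ := exists_conj_mem S (L := (S : Subgroup G) ⊔ Wg D hN) le_sup_left
    (mem_sup_right h1W) hkn
  rw [← SetLike.mem_coe, Subgroup.coe_mul_of_left_le_normalizer_right _ _ hSW, Set.mem_mul] at hl
  obtain ⟨s, hs, x, hx, rfl⟩ := hl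
  obtain ⟨hxN, c, d, hxA⟩ := hx
  have h2 : x * g ^ (2 * k + 1) * x⁻¹ ∈ (S : Subgroup G) := by
    have h3 := (S : Subgroup G).mul_mem ((S : Subgroup G).mul_mem ((S : Subgroup G).inv_mem hs) hlS) hs
    have e : s⁻¹ * (s * x * g ^ (2 * k + 1) * (s * x)⁻¹) * s = x * g ^ (2 * k + 1) * x⁻¹ := by group
    rwa [e] at h3
  refine ⟨_, h2, fun X => ?_⟩
  rw [act_conj hN hxN h1N]
  show D.act x (D.act (g ^ (2 * k + 1)) (D.act x⁻¹ X)) = _
  rw [h1, act_inv_of hN hxN hxA, hxA, up_inv, up_inv, act_act, act_act, ← up_add, ← up_add, ← up_add, ← up_add]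
  have e1 : ∀ c a : F, c + a + c = a := fun c a => by
    have := CharTwo.add_self_eq_zero c
    linear_combination this
  rw [e1, e1]

/-- **`S` contains an element interchanging the factors.** -/
theorem S_swap (S : Sylow 2 G) (hS : (S : Subgroup G) ≤ N) : ∃ s ∈ (S : Subgroup G), T2 (D.act s) := by
  obtain ⟨g, hg, hgT⟩ := exists_T2 (D := D) hN ht0 ht1
  obtain ⟨k, n, hkn⟩ := exists_odd hN g
  have h1 : T2 (D.act (g ^ (2 * k + 1))) := by
    have h2 : D.act (g ^ (2 * k + 1)) = (D.act g)^[2 * k + 1] := funext fun X => (act_pow hN hg _ X).symm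
    rw [h2]
    exact T2_iter hgT k
  have h1N : g ^ (2 * k + 1) ∈ N := pow_mem hg _
  obtain ⟨l, hl, hlS⟩ := exists_conj_mem S hS h1N hkn
  exact ⟨_, hlS, T2_conj hN ht0 ht1 hl h1N h1⟩

end cover

/-- The hypotheses of the application. -/
structure Sy (D : PlusQ F N V) (S : Sylow 2 G) (Z : Subgroup G) : Prop where
  hN : ∀ m ∈ N, Mv m V V
  C_N : centralizer (V : Set G) ≤ N
  S_N : (S : Subgroup G) ≤ N
  Z_V : Z ≤ V
  Z_S : ∀ z ∈ Z, ∀ s ∈ (S : Subgroup G), z * s = s * z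
  Z_max : ∀ x ∈ (S : Subgroup G), x * x = 1 → (∀ s ∈ (S : Subgroup G), x * s = s * x) → x ∈ Z
  char2N : ∀ R : Subgroup G, R ≠ ⊥ → R ≤ V → (S : Subgroup G) ≤ normalizer (R : Set G) →
    normalizer (R : Set G) ⊓ centralizer (QQ R : Set G) ≤ QQ R
  char2C : centralizer (Z : Set G) ⊓ centralizer (o2 (centralizer (Z : Set G)) : Set G) ≤
    o2 (centralizer (Z : Set G))
  V_Qt : ¬ V ≤ o2 (centralizer (Z : Set G))
  four : 4 ≤ (V ⊓ o2 (centralizer (Z : Set G))).relIndex V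
  three : ∃ t : F, t ≠ 0 ∧ t ≠ 1

namespace Sy

variable [Finite G] {S : Sylow 2 G} {Z : Subgroup G} (h : Sy D S Z)

theorem conj (h : Sy D S Z) {m : G} (hm : m ∈ N) : Sy (D.conj h.hN m hm) S Z :=
  ⟨h.hN, h.C_N, h.S_N, h.Z_V, h.Z_S, h.Z_max, h.char2N, h.char2C, h.V_Qt, h.four, h.three⟩

include h

/-- after moving the coordinates `S` fixes the point `0` -/
theorem exists_fix [Finite F] : ∃ D' : PlusQ F N V, Sy D' S Z ∧ ∀ s ∈ (S : Subgroup G), Mv s D'.R0 D'.R0 := by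
  obtain ⟨i, j, hij⟩ := exists_fixed (D := D) h.hN h.three h.S_N S.isPGroup'
  obtain ⟨m, hm, hmA⟩ := lift_act (D := D) h.hN (rep i) (rep j)
  refine ⟨D.conj h.hN m hm, h.conj hm, fun s hs => ?_⟩
  have e0 : (D.conj h.hN m hm).R0 = D.R i j := by
    rw [← RA_one, conj_RA h.hN hm hmA, mul_one, mul_one]; rfl
  rw [e0]
  exact Mv.of_cj (hij s hs)

/-- `W ∩ V = 1` implies `W = 1` for normal 2-subgroups `W` of `N` -/
theorem meet (W : Subgroup G) (hW : IsPGroup 2 W) (hWN : W ≤ N)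
    (hn : ∀ m ∈ N, ∀ y ∈ W, m * y * m⁻¹ ∈ W) (hWV : W ⊓ V = ⊥) : W = ⊥ := by
  have : Fact (Nat.Prime 2) := ⟨Nat.prime_two⟩
  have hNS : W ≤ S := le_sylow S h.S_N hW hn
  by_contra hne
  obtain ⟨n0, hn0, hn1⟩ : ∃ n ∈ W, n ≠ 1 := by
    by_contra hcon
    push Not at hcon
    exact hne ((eq_bot_iff_forall _).2 hcon)
  obtain ⟨n, hnN, hn1, hnc⟩ := GTwoFour.Tools.exists_fixed_mod (Y := (S : Subgroup G)) (N := W)
    (M := ⊥) S.isPGroup' hNS (fun y hy n hn' => hn y (h.S_N hy) n hn')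
    (fun y hy m hm => by rw [mem_bot] at hm ⊢; rw [hm]; group) ⟨n0, hn0, hn1⟩
  have hcen : ∀ s ∈ (S : Subgroup G), n * s = s * n := by
    intro s hs
    have h1 := hnc s hs
    rw [mem_bot, commutatorElement_eq_one_iff_mul_comm] at h1
    exact h1.symm
  have hne1 : n ≠ 1 := fun h0 => hn1 (by rw [h0]; exact Subgroup.one_mem _)
  obtain ⟨k, hk⟩ := hW ⟨n, hnN⟩
  have hk' : n ^ 2 ^ k = 1 := by simpa using congrArg Subtype.val hk
  have hex : ∃ k, n ^ 2 ^ k = 1 := ⟨k, hk'⟩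
  classical
  have hf := Nat.find_spec hex
  set j := Nat.find hex with hj
  have hj0 : j ≠ 0 := by
    intro h0
    rw [h0, pow_zero, pow_one] at hf
    exact hne1 hf
  obtain ⟨i, hi⟩ := Nat.exists_eq_succ_of_ne_zero hj0
  have hlt : n ^ 2 ^ i ≠ 1 := Nat.find_min hex (by omega)
  have hz : n ^ 2 ^ i ∈ Z := by
    apply h.Z_max _ (hNS (W.pow_mem hnN _))
    · rw [← pow_add, ← two_mul, ← pow_succ', ← Nat.succ_eq_add_one, ← hi]
      exact hf
    · intro s hs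
      exact (Commute.pow_left (hcen s hs) _)
  apply hlt
  have : n ^ 2 ^ i ∈ W ⊓ V := mem_inf.mpr ⟨W.pow_mem hnN _, h.Z_V hz⟩
  rw [hWV, mem_bot] at this
  exact this

theorem Qt_S : o2 (centralizer (Z : Set G)) ≤ S := by
  refine le_sylow S (L := centralizer (Z : Set G)) ?_ (Cfsg.Agent.ZN.isPGroup_o2 _) ?_
  · intro s hs
    rw [mem_centralizer_iff]
    intro z hz
    exact h.Z_S z hz s hs
  · intro c hc y hy
    exact (mem_normalizer_iff.1 (Cfsg.Agent.ZN.le_normalizer_o2 _ hc) y).1 hy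

theorem Qt_nor {c : G} (hc : c ∈ centralizer (Z : Set G)) {y : G} (hy : y ∈ o2 (centralizer (Z : Set G))) :
    c * y * c⁻¹ ∈ o2 (centralizer (Z : Set G)) :=
  (mem_normalizer_iff.1 (Cfsg.Agent.ZN.le_normalizer_o2 _ hc) y).1 hy

theorem V_CZ : V ≤ centralizer (Z : Set G) := by
  intro v hv
  rw [mem_centralizer_iff]
  exact fun z hz => D.comm (h.Z_V hz) hv

theorem S_CZ : (S : Subgroup G) ≤ centralizer (Z : Set G) := by
  intro s hs
  rw [mem_centralizer_iff]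
  exact fun z hz => h.Z_S z hz s hs

variable (hR : ∀ s ∈ (S : Subgroup G), Mv s D.R0 D.R0)
include hR

/-- `Z ≤ R₀` -/
theorem Z_R0 : Z ≤ D.R0 := by
  obtain ⟨t, ht0, ht1⟩ := h.three
  intro z hz
  have key : ∀ a b, Tens.act (up a) (up b) (D.e z) = D.e z := by
    intro a b
    obtain ⟨s, hs, hsA⟩ := cover_S h.hN ht0 ht1 S h.S_N hR a b
    rw [← hsA, act_e h.hN (h.S_N hs) (h.Z_V hz), ← h.Z_S z hz s hs, mul_inv_cancel_right]
  refine ⟨h.Z_V hz, D.e z 0 0, eq_e0_of_fixed ?_ ?_⟩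
  · have := key 1 0; rwa [up_zero] at this
  · have := key 0 1; rwa [up_zero] at this

theorem fixS {s : G} (hs : s ∈ (S : Subgroup G)) : ∀ x, ∃ y, D.act s (e0 x) = e0 y :=
  (fix_iff h.hN (h.S_N hs)).1 (hR s hs)

/-- `T₁` centralises `R₀ ≥ Z` -/
theorem tor_CZ {t : G} (ht : t ∈ N) {l : Fˣ} (htA : ∀ X, D.act t X = Tens.act (tor l) (tor l⁻¹) X) :
    t ∈ centralizer (Z : Set G) := by
  rw [mem_centralizer_iff]
  intro z hz
  obtain ⟨hzV, c, hc⟩ := h.Z_R0 hR hz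
  have h1 : t * z * t⁻¹ = z := by
    refine D.e_inj ((h.hN t ht z).1 hzV) hzV ?_
    rw [← act_e h.hN ht hzV, hc, htA, act_tor_e0]
    simp
  calc z * t = (t * z * t⁻¹) * t := by rw [h1]
    _ = t * z := by group

/-- `[y, t] ∈ U₀` for `y ∈ O₂(C(Z))`, `t ∈ T₁` -/
theorem htor {y : G} (hy : y ∈ o2 (centralizer (Z : Set G))) (l : Fˣ) : ∃ a b, ∀ X,
    D.act y (Tens.act (tor l) (tor l⁻¹) X) = Tens.act (up a * tor l) (up b * tor l⁻¹) (D.act y X) := by
  have hyS := h.Qt_S hy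
  have hyN := h.S_N hyS
  have hm := nm (D := D) h.hN hyN
  obtain ⟨t, ht, htA⟩ := lift_act (D := D) h.hN (tor l) (tor l⁻¹)
  obtain ⟨A, B, hAB⟩ := hm.nor (tor l) (tor l⁻¹)
  set c := y * t * y⁻¹ * t⁻¹ with hc
  have hcQ : c ∈ o2 (centralizer (Z : Set G)) := by
    have e : c = y * (t * y⁻¹ * t⁻¹) := by rw [hc]; group
    rw [e]
    exact mul_mem hy (h.Qt_nor (h.tor_CZ hR ht htA) (inv_mem hy))
  have hcN := h.S_N (h.Qt_S hcQ)
  have hcA : ∀ X, D.act c X = Tens.act (A * (tor l)⁻¹) (B * (tor l⁻¹)⁻¹) X := by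
    intro X
    have hct : D.act (c * t * y) (D.act y⁻¹ (Tens.act (tor l)⁻¹ (tor l⁻¹)⁻¹ X)) = D.act c X := by
      rw [act_mul h.hN (mul_mem hcN ht) hyN, act_act_inv h.hN hyN,
        act_mul h.hN hcN ht, htA, Tens.act_act_inv]
    rw [← hct]
    have e : c * t * y = y * t := by rw [hc]; group
    rw [e, act_mul h.hN hyN ht, htA, hAB, hm.right, act_act]
  obtain ⟨k, hk⟩ : ∃ k : ℕ, ∀ X, (D.act c)^[2 ^ k] X = X := by
    obtain ⟨k, hk⟩ := Cfsg.Agent.Omega.NOne.LemmaT.exists_pow_eq_one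
      (Cfsg.Agent.ZN.isPGroup_o2 (centralizer (Z : Set G)))
    exact ⟨k, fun X => by rw [act_pow h.hN hcN, hk c hcQ, act_one_eq h.hN]⟩
  have hcA' : D.act c = Tens.act (A * (tor l)⁻¹) (B * (tor l⁻¹)⁻¹) := funext hcA
  obtain ⟨d, hd⟩ := h.fixS hR (h.Qt_S hcQ) 1
  rw [hcA'] at hk hd
  obtain ⟨u1, u2⟩ := two_L one_ne_zero hd hk
  refine ⟨(A * (tor l)⁻¹).1 0 1, (B * (tor l⁻¹)⁻¹).1 0 1, fun X => ?_⟩
  rw [← u1, ← u2, inv_mul_cancel_right, inv_mul_cancel_right, hAB]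

theorem exists_order {y : G} (hy : y ∈ o2 (centralizer (Z : Set G))) : ∃ k : ℕ, ∀ X, (D.act y)^[2 ^ k] X = X := by
  obtain ⟨k, hk⟩ := Cfsg.Agent.Omega.NOne.LemmaT.exists_pow_eq_one
    (Cfsg.Agent.ZN.isPGroup_o2 (centralizer (Z : Set G)))
  exact ⟨k, fun X => by rw [act_pow h.hN (h.S_N (h.Qt_S hy)), hk y hy, act_one_eq h.hN]⟩

variable [Finite F]

/-- **`O₂(C(Z))` contains no swap** -/
theorem not_T2 {y : G} (hy : y ∈ o2 (centralizer (Z : Set G))) (hT : T2 (D.act y)) : False := by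
  obtain ⟨t, ht0, ht1⟩ := h.three
  have hyN := h.S_N (h.Qt_S hy)
  have hm := nm (D := D) h.hN hyN
  have h0 := h.fixS hR (h.Qt_S hy)
  have htor := fun l : Fˣ => h.htor hR hy l
  -- `|F| ≤ 4`
  have hcard : Nat.card F ≤ 4 := by
    classical
    have := Fintype.ofFinite F
    have h1 : (Finset.univ : Finset F) ⊆ {0, 1, t, t + 1} := by
      intro x _
      by_cases hx0 : x = 0
      · simp [hx0]
      by_cases hx1 : x = 1
      · simp [hx1]
      have e1 := hm.swap_four ht0 ht1 hT h0 htor hx0 hx1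
      have e2 := hm.swap_four ht0 ht1 hT h0 htor ht0 ht1
      have e3 : (x - t) * (x - (t + 1)) = 0 := by
        have h2 := CharTwo.add_self_eq_zero x
        have h3 : (2 : F) = 0 := by
          have := CharTwo.add_self_eq_zero (1 : F)
          rw [← this]; ring
        linear_combination e1 + e2 + (- x - x * t) * h3 - h3 * 1
      rcases mul_eq_zero.1 e3 with h4 | h4
      · simp [sub_eq_zero.1 h4]
      · simp [sub_eq_zero.1 h4]
    rw [Nat.card_eq_fintype_card, ← Finset.card_univ]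
    exact (Finset.card_le_card h1).trans (Finset.card_le_four)
  -- the subgroup `E`
  let E : AddSubgroup (M2 F) :=
    { carrier := {X | D.v X ∈ o2 (centralizer (Z : Set G))}
      zero_mem' := by
        show D.v 0 ∈ o2 (centralizer (Z : Set G))
        rw [D.v_zero]; exact one_mem _
      add_mem' := by
        intro X Y hX hY
        show D.v (X + Y) ∈ o2 (centralizer (Z : Set G))
        rw [D.v_add]; exact mul_mem hX hY
      neg_mem' := by
        intro X hX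
        show D.v (-X) ∈ o2 (centralizer (Z : Set G))
        have e : D.v (-X) = (D.v X)⁻¹ := D.e_inj (D.v_mem _) (inv_mem (D.v_mem _)) (by
          rw [D.e_v, D.e_inv (D.v_mem _), D.e_v])
        rw [e]; exact inv_mem hX }
  have hE : ∀ X, X ∈ E ↔ D.v X ∈ o2 (centralizer (Z : Set G)) := fun X => Iff.rfl
  obtain ⟨k0, k1, k2, Y, hY, hY11⟩ := hm.swap_E ht0 ht1 hT h0 htor E (by
    intro a b X hX
    obtain ⟨s, hs, hsA⟩ := cover_S h.hN ht0 ht1 S h.S_N hR a b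
    rw [hE, ← hsA, v_act h.hN (h.S_N hs)]
    exact h.Qt_nor (h.S_CZ hs) hX) (by
    intro X
    rw [hE, D.v_add, v_act h.hN hyN]
    have e : D.v X * (y * D.v X * y⁻¹) = (D.v X * y * (D.v X)⁻¹) * y⁻¹ := by
      have h1 : (D.v X)⁻¹ = D.v X := inv_eq_of_mul_eq_one_left (D.sq (D.v_mem X))
      rw [h1]; group
    rw [e]
    exact mul_mem (h.Qt_nor (h.V_CZ (D.v_mem X)) hy) (inv_mem hy))
  -- the index
  let A : AddSubgroup F := E.map
    { toFun := fun X : M2 F => X 1 1, map_zero' := rfl, map_add' := fun _ _ => rfl }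
  have hA : ∀ X : M2 F, X 1 1 ∈ A ↔ X ∈ E := by
    intro X
    constructor
    · rintro ⟨Y, hY, hYX⟩
      have h1 : Y 1 1 = X 1 1 := hYX
      have h2 : X - Y = e0 ((X - Y) 0 0) + e1 ((X - Y) 0 1) + e2 ((X - Y) 1 0) := by
        conv_lhs => rw [e_sum (X - Y)]
        have h3 : (X - Y) 1 1 = 0 := by simp [h1]
        rw [h3, e3_zero, add_zero]
      have h4 : X - Y ∈ E := by
        rw [h2]; exact E.add_mem (E.add_mem (k0 _) (k1 _)) (k2 _)
      have h5 := E.add_mem h4 hY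
      rwa [sub_add_cancel] at h5
    · exact fun hX => ⟨X, hX, rfl⟩
  have h1 : (V ⊓ o2 (centralizer (Z : Set G))).relIndex V = Nat.card (F ⧸ A) :=
    Beta.Inst.relIndex_eq_card (fun v => ((D.e v 1 1 : F) : F ⧸ A))
      (fun x hx y hy => by
        beta_reduce
        rw [D.mul x hx y hy]; rfl)
      (fun a => by
        obtain ⟨c, rfl⟩ := QuotientAddGroup.mk_surjective a
        exact ⟨D.v (e3 c), D.v_mem _, by rw [D.e_v]; simp [e3]⟩)
      (fun x hx => by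
        beta_reduce
        rw [QuotientAddGroup.eq_zero_iff, hA, hE, D.v_e hx, mem_inf]
        exact ⟨fun h => ⟨hx, h⟩, fun h => h.2⟩)
  have h2 : Nat.card F = Nat.card (F ⧸ A) * Nat.card A := AddSubgroup.card_eq_card_quotient_mul_card_addSubgroup A
  have h3 : 2 ≤ Nat.card A := by
    have h4 : (⟨Y 1 1, (hA Y).2 hY⟩ : A) ≠ 0 := fun e => hY11 (congrArg Subtype.val e)
    have : Nontrivial A := ⟨⟨_, _, h4⟩⟩
    exact Finite.one_lt_card
  have h4 := h.four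
  rw [h1] at h4
  have h5 : 4 * 2 ≤ Nat.card (F ⧸ A) * Nat.card A := Nat.mul_le_mul h4 h3
  omega

/-- **`O₂(C(Z))` acts as a subgroup of `U₀`** -/
theorem Qt_U {y : G} (hy : y ∈ o2 (centralizer (Z : Set G))) : ∃ a b, ∀ X,
    D.act y X = Tens.act (up a) (up b) X := by
  obtain ⟨t, ht0, ht1⟩ := h.three
  have hyN := h.S_N (h.Qt_S hy)
  have hm := nm (D := D) h.hN hyN
  obtain ⟨k, hk⟩ := h.exists_order hR hy
  rcases hm.dich ht0 ht1 with hT | hT
  · exact hm.mem_U ht0 ht1 hT (h.fixS hR (h.Qt_S hy)) hk fun l => h.htor hR hy l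
  · exact (h.not_T2 hR hy hT).elim

/-- `C_V(O₂(C(Z))) ≤ R₀` -/
theorem C_V {v : G} (hv : v ∈ V) (hc : ∀ y ∈ o2 (centralizer (Z : Set G)), y * v = v * y) : v ∈ D.R0 := by
  obtain ⟨t, ht0, ht1⟩ := h.three
  -- a nontrivial element
  obtain ⟨y, hy, a, b, hyA, hne⟩ : ∃ y ∈ o2 (centralizer (Z : Set G)), ∃ a b : F,
      (∀ X, D.act y X = Tens.act (up a) (up b) X) ∧ ¬ (a = 0 ∧ b = 0) := by
    by_contra hcon
    push Not at hcon
    apply h.V_Qt
    refine fun w hw => h.char2C ⟨h.V_CZ hw, mem_centralizer_iff.2 fun y hy => ?_⟩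
    obtain ⟨a0, b0, hyA⟩ := h.Qt_U hR hy
    obtain ⟨ha, hb⟩ := hcon y hy a0 b0 hyA
    have h1 : ∀ X, D.act y X = X := fun X => by rw [hyA, ha, hb, up_zero, act_one]
    exact (mem_centralizer_iff.1 ((act_one_iff h.hN (h.S_N (h.Qt_S hy))).1 h1) w hw).symm
  -- the fixed points of an element
  have fixd : ∀ y ∈ o2 (centralizer (Z : Set G)), ∀ a b, (∀ X, D.act y X = Tens.act (up a) (up b) X) →
      a * D.e v 1 1 = 0 ∧ b * D.e v 1 1 = 0 ∧ a * D.e v 1 0 + b * (D.e v 0 1 + a * D.e v 1 1) = 0 := by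
    intro y hy a b hyA
    have h1 : D.act y (D.e v) = D.e v := by
      rw [act_e h.hN (h.S_N (h.Qt_S hy)) hv, hc y hy, mul_inv_cancel_right]
    rw [hyA, act_up] at h1
    have h00 := congrArg (fun X : M2 F => X 0 0) h1
    have h01 := congrArg (fun X : M2 F => X 0 1) h1
    have h10 := congrArg (fun X : M2 F => X 1 0) h1
    simp only [Matrix.of_apply, Matrix.cons_val', Matrix.cons_val_zero, Matrix.cons_val_one,
      Matrix.cons_val_fin_one] at h00 h01 h10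
    refine ⟨by linear_combination h01, by linear_combination h10, by linear_combination h00⟩
  -- two independent elements
  obtain ⟨y', hy', a', b', hyA', hdet⟩ : ∃ y' ∈ o2 (centralizer (Z : Set G)), ∃ a' b' : F,
      (∀ X, D.act y' X = Tens.act (up a') (up b') X) ∧ a * b' - b * a' ≠ 0 := by
    by_cases ha : a = 0
    · obtain ⟨s, hs, hsT⟩ := S_swap (D := D) h.hN ht0 ht1 S h.S_N
      have hb : b ≠ 0 := fun hb => hne ⟨ha, hb⟩
      have hms := nm (D := D) h.hN (h.S_N hs)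
      have hyN := h.S_N (h.Qt_S hy)
      obtain ⟨b1, hb1⟩ := hms.un2_right hsT (h.fixS hR hs) b
      refine ⟨s * y * s⁻¹, h.Qt_nor (h.S_CZ hs) hy, b1, 0, fun X => ?_, ?_⟩
      · rw [act_conj h.hN (h.S_N hs) hyN]
        show D.act s (D.act y (D.act s⁻¹ X)) = _
        rw [hyA, ha, up_zero, hb1, hms.right]
      · rw [mul_zero, zero_sub, neg_ne_zero]
        refine mul_ne_zero hb fun h1 => ?_
        rw [h1, up_zero] at hb1
        have h2 : ∀ X, Tens.act 1 (up b) X = X := fun X => hms.inj (by rw [hb1, act_one])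
        have h3 := (act_eq_one h2).2
        rw [← up_zero] at h3
        exact hb (up_inj h3)
    by_cases hb : b = 0
    · obtain ⟨s, hs, hsT⟩ := S_swap (D := D) h.hN ht0 ht1 S h.S_N
      have hms := nm (D := D) h.hN (h.S_N hs)
      have hyN := h.S_N (h.Qt_S hy)
      obtain ⟨a1, ha1⟩ := hms.un2_left hsT (h.fixS hR hs) a
      refine ⟨s * y * s⁻¹, h.Qt_nor (h.S_CZ hs) hy, 0, a1, fun X => ?_, ?_⟩
      · rw [act_conj h.hN (h.S_N hs) hyN]
        show D.act s (D.act y (D.act s⁻¹ X)) = _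
        rw [hyA, hb, up_zero, ha1, hms.right]
      · rw [mul_zero, sub_zero]
        refine mul_ne_zero ha fun h1 => ?_
        rw [h1, up_zero] at ha1
        have h2 : ∀ X, Tens.act (up a) 1 X = X := fun X => hms.inj (by rw [ha1, act_one])
        have h3 := (act_eq_one h2).1
        rw [← up_zero] at h3
        exact ha (up_inj h3)
    · set l : Fˣ := Units.mk0 t ht0 with hl
      have hlt : (l : F) = t := rfl
      obtain ⟨g, hg, hgA⟩ := lift_act (D := D) h.hN (tor l) (tor l⁻¹)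
      have hyN := h.S_N (h.Qt_S hy)
      refine ⟨g * y * g⁻¹, h.Qt_nor (h.tor_CZ hR hg hgA) hy, l * l * a, (l⁻¹ : Fˣ) * (l⁻¹ : Fˣ) * b, fun X => ?_, ?_⟩
      · rw [act_conj h.hN hg hyN]
        show D.act g (D.act y (D.act g⁻¹ X)) = _
        rw [hyA, hgA, tor_act_up]
        congr 1
        rw [← hgA, act_act_inv h.hN hg]
      · intro e1
        have e2 : a * b * (((l⁻¹ : Fˣ) : F) * ((l⁻¹ : Fˣ) : F) - l * l) = 0 := by linear_combination e1
        have e3 : ((l⁻¹ : Fˣ) : F) * ((l⁻¹ : Fˣ) : F) - l * l = 0 := by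
          rcases mul_eq_zero.1 e2 with h1 | h1
          · exact absurd h1 (mul_ne_zero ha hb)
          · exact h1
        have hll : (l : F) * ((l⁻¹ : Fˣ) : F) = 1 := by simp
        have e4 : ((l : F) * l) * (l * l) = 1 := by
          linear_combination (- (l : F) * l) * e3 + (l * ((l⁻¹ : Fˣ) : F) + 1) * hll
        exact ht1 (eq_one_of_sq (eq_one_of_sq e4))
  obtain ⟨f1, f2, f3⟩ := fixd y hy a b hyA
  obtain ⟨f1', f2', f3'⟩ := fixd y' hy' a' b' hyA'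
  have g11 : D.e v 1 1 = 0 := by
    rcases mul_eq_zero.1 f1 with h1 | h1
    · rcases mul_eq_zero.1 f2 with h2 | h2
      · exact absurd ⟨h1, h2⟩ hne
      · exact h2
    · exact h1
  rw [g11, mul_zero, add_zero] at f3 f3'
  have g10 : D.e v 1 0 = 0 := by
    have : (a * b' - b * a') * D.e v 1 0 = 0 := by linear_combination b' * f3 - b * f3'
    exact (mul_eq_zero.1 this).resolve_left hdet
  have g01 : D.e v 0 1 = 0 := by
    have : (a * b' - b * a') * D.e v 0 1 = 0 := by linear_combination a * f3' - a' * f3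
    exact (mul_eq_zero.1 this).resolve_left hdet
  exact ⟨hv, D.e v 0 0, by apply ext2 <;> simp [e0, g01, g10, g11]⟩

/-- **`Cx D` holds at the point fixed by `S`.** -/
theorem cx : Cx D := by
  obtain ⟨t, ht0, ht1⟩ := h.three
  have hSN : (S : Subgroup G) ≤ normalizer (D.R0 : Set G) := fun s hs => (hR s hs).mem_nor
  have hR0 : D.R0 ≠ ⊥ := by rw [← R_none]; exact R_ne_bot none none
  have hQS : QQ D.R0 ≤ S := by
    refine le_sylow S hSN (Cfsg.Agent.ZN.isPGroup_o2 _) fun c hc y hy => ?_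
    exact (mem_normalizer_iff.1 (Cfsg.Agent.ZN.le_normalizer_o2 _ hc) y).1 hy
  have hR0Q : D.R0 ≤ QQ D.R0 := by
    refine Cfsg.Agent.ZN.le_o2 le_normalizer ?_ le_rfl
    rintro ⟨x, hx⟩
    refine ⟨1, Subtype.ext ?_⟩
    show x ^ 2 ^ 1 = 1
    rw [pow_one, pow_two]
    exact D.sq hx.1
  refine ⟨h.hN, fun hVQ => h.V_Qt ?_, ?_, hQS.trans h.S_N, h.three⟩
  · refine Beta.App.le_of_le (C := centralizer (Z : Set G)) (R := D.R0) (Q := QQ D.R0) h.V_CZ
      (fun c hc y hy => h.Qt_nor hc hy) ?_ (fun c hc hx => h.char2C ⟨hc, mem_centralizer_iff.2 fun y hy => hx y hy⟩)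
      R0_le (fun r hr => D.sq hr.1) ?_ ?_ (Cfsg.Agent.ZN.isPGroup_o2 _) ?_ hVQ
    · intro W hW hWC hWn
      refine Cfsg.Agent.ZN.le_o2 hWC hW fun c hc => ?_
      refine Mv.mem_nor fun x => ⟨fun hx => hWn c hc x hx, fun hx => ?_⟩
      have := hWn c⁻¹ (inv_mem hc) _ hx
      have e : c⁻¹ * (c * x * c⁻¹) * c⁻¹⁻¹ = x := by group
      rwa [e] at this
    · rintro r ⟨hr, c, hc⟩ x hx
      obtain ⟨a, b, hab⟩ := h.Qt_U hR hx
      have hxN := h.S_N (h.Qt_S hx)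
      have h1 : x * r * x⁻¹ = r := by
        refine D.e_inj ((h.hN x hxN r).1 hr) hr ?_
        rw [← act_e h.hN hxN hr, hc, hab, act_up_e0]
      calc x * r = (x * r * x⁻¹) * x := by group
        _ = r * x := by rw [h1]
    · intro y hy hyc _ v hv
      obtain ⟨a, b, hab⟩ := h.Qt_U hR hy
      have hyN := h.S_N (h.Qt_S hy)
      -- `[w, y] ∈ R₀` for `w ∈ V`
      have hkey : ∀ w ∈ V, D.act y (D.e w) - D.e w = D.e (y * w * y⁻¹ * w⁻¹) ∧ y * w * y⁻¹ * w⁻¹ ∈ D.R0 := by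
        intro w hw
        have hw1 : y * w * y⁻¹ ∈ V := (h.hN y hyN w).1 hw
        refine ⟨by rw [D.mul _ hw1 _ (inv_mem hw), D.e_inv hw, act_e h.hN hyN hw, sub_eq_add_neg], ?_⟩
        refine h.C_V hR (mul_mem hw1 (inv_mem hw)) fun x hx => ?_
        have h5 : w⁻¹ * x * w ∈ o2 (centralizer (Z : Set G)) := by
          have := h.Qt_nor (h.V_CZ (inv_mem hw)) hx
          rwa [inv_inv] at this
        have h6 : x * (w * y⁻¹ * w⁻¹) = (w * y⁻¹ * w⁻¹) * x := by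
          have h7 := hyc _ h5
          have h8 : w⁻¹ * x * w * y⁻¹ = y⁻¹ * (w⁻¹ * x * w) := by
            calc w⁻¹ * x * w * y⁻¹ = y⁻¹ * (y * (w⁻¹ * x * w)) * y⁻¹ := by group
              _ = y⁻¹ * (w⁻¹ * x * w * y) * y⁻¹ := by rw [h7]
              _ = _ := by group
          calc x * (w * y⁻¹ * w⁻¹) = w * (w⁻¹ * x * w * y⁻¹) * w⁻¹ := by group
            _ = w * (y⁻¹ * (w⁻¹ * x * w)) * w⁻¹ := by rw [h8]
            _ = _ := by group
        calc x * (y * w * y⁻¹ * w⁻¹) = (x * y) * (w * y⁻¹ * w⁻¹) := by group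
          _ = (y * x) * (w * y⁻¹ * w⁻¹) := by rw [hyc x hx]
          _ = y * (x * (w * y⁻¹ * w⁻¹)) := by group
          _ = y * ((w * y⁻¹ * w⁻¹) * x) := by rw [h6]
          _ = _ := by group
      obtain ⟨e1, e2⟩ := hkey _ (D.v_mem (e3 1))
      obtain ⟨-, c, hc⟩ := e2
      rw [hc, D.e_v, hab, act_up] at e1
      have h01 := congrArg (fun X : M2 F => X 0 1) e1
      have h10 := congrArg (fun X : M2 F => X 1 0) e1
      simp [e0, e3] at h01 h10
      have h2 : ∀ X, D.act y X = X := fun X => by rw [hab, h01, h10, up_zero, act_one]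
      exact mem_centralizer_iff.1 ((act_one_iff h.hN hyN).1 h2) v hv
    · intro c hc y hy
      exact (mem_normalizer_iff.1 (Cfsg.Agent.ZN.le_normalizer_o2 _ hc) y).1 hy
  · intro x hx
    refine h.char2N D.R0 hR0 R0_le hSN ⟨?_, hx⟩
    refine centralizer_le_normalizer _ ?_
    exact centralizer_le (show (D.R0 : Set G) ⊆ (QQ D.R0 : Set G) from hR0Q) hx

end Sy

end Cfsg.Agent.Omega.NO1.PlusQ

end

-- merged: Cfsg.Agent.Mrg.Omega.NO1.Beta.Plug
section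

section


/-!
# THEOREM BETA in the configuration of NO-1' (`Cfg S P`, `MinusQ K σ P (zl S P)`)

`Plug.main` : there are coordinates `d` on `V = V_P` (for `M = P C(V)`), with `S ≤ N(R₀)`, `Ω₁(Z(S)) ≤ R₀`,
`Hyp d o2` (so `V ≰ O₂(N(R₀))`, `O₂(N(R₀))` induces exactly `U₀`, …) and the structure `Beta` for the singular points.
`Plug.result` : `Q = O₂(N(R₀))` is semi-extraspecial with centre `R₀`.
-/

set_option autoImplicit false
set_option linter.unusedSectionVars false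

namespace Cfsg.Agent.Omega.NO1.Beta.Plug

open Subgroup Cfsg Cfsg.Agent.ZN Cfsg.Agent.Omega.MinPar Cfsg.Agent.Omega.Frame
open Cfsg.Agent.MinSimple.VModule (zc_le_zl o2_isPGroup)
open scoped Pointwise

universe u

variable {G : Type u} [Group G]

theorem isO : Inst.IsO (o2 : Subgroup G → Subgroup G) where
  two := o2_isPGroup
  le := MinSimple.VModule.o2_le
  nor := fun H _ hc y hy => (mem_normalizer_iff.mp (MinSimple.VModule.le_normalizer_o2 H hc) y).mp hy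
  max := fun H N h1 h2 h3 => MinSimple.VModule.le_o2 h2 h1 (fun c hc => by
    rw [mem_normalizer_iff]
    intro y
    refine ⟨fun hy => h3 c hc y hy, fun hy => ?_⟩
    have h4 := h3 c⁻¹ (inv_mem hc) _ hy
    have e : c⁻¹ * (c * y * c⁻¹) * c⁻¹⁻¹ = y := by group
    rwa [e] at h4)

section co

variable {P V : Subgroup G} {K : Type} [Field K] {σ : K ≃+* K}

theorem exists_mul (hPV : P ≤ normalizer (V : Set G)) {x : G} (hx : x ∈ P ⊔ centralizer (V : Set G)) :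
    ∃ p ∈ P, ∀ v ∈ V, x * v * x⁻¹ = p * v * p⁻¹ ∧ x⁻¹ * v * x = p⁻¹ * v * p := by
  have h1 : P ≤ normalizer ((centralizer (V : Set G) : Subgroup G) : Set G) := by
    intro p hp
    have h2 := hPV hp
    have key : ∀ p ∈ normalizer (V : Set G), ∀ c ∈ centralizer (V : Set G),
        p * c * p⁻¹ ∈ centralizer (V : Set G) := by
      intro p hp c hc
      rw [mem_centralizer_iff] at hc ⊢
      intro v hv
      have h3 : p⁻¹ * v * p ∈ V := by
        have := (mem_normalizer_iff.mp (inv_mem hp) v).mp hv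
        rwa [inv_inv] at this
      have h4 := hc _ h3
      calc v * (p * c * p⁻¹) = p * ((p⁻¹ * v * p) * c) * p⁻¹ := by group
        _ = p * (c * (p⁻¹ * v * p)) * p⁻¹ := by rw [h4]
        _ = p * c * p⁻¹ * v := by group
    rw [mem_normalizer_iff]
    intro c
    refine ⟨fun hc => key p h2 c hc, fun hc => ?_⟩
    have := key p⁻¹ (inv_mem h2) _ hc
    have e : p⁻¹ * (p * c * p⁻¹) * p⁻¹⁻¹ = c := by group
    rwa [e] at this
  rw [← SetLike.mem_coe, Subgroup.coe_mul_of_left_le_normalizer_right _ _ h1, Set.mem_mul] at hx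
  obtain ⟨p, hp, c, hc, rfl⟩ := hx
  have hc' : ∀ v ∈ V, v * c = c * v := fun v hv => mem_centralizer_iff.mp hc v hv
  refine ⟨p, hp, fun v hv => ⟨?_, ?_⟩⟩
  · have e : p * c * v * (p * c)⁻¹ = p * (c * v) * c⁻¹ * p⁻¹ := by group
    rw [e, ← hc' v hv]; group
  · have h3 : p⁻¹ * v * p ∈ V := by
      have := (mem_normalizer_iff.mp (inv_mem (hPV hp)) v).mp hv
      rwa [inv_inv] at this
    have e : (p * c)⁻¹ * v * (p * c) = c⁻¹ * ((p⁻¹ * v * p) * c) := by group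
    rw [e, hc' _ h3]; group

/-- The coordinates for `M = P C(V)`. -/
def co (m : MinusQ K σ P V) (hPV : P ≤ normalizer (V : Set G)) (h1 : σ ≠ RingEquiv.refl K)
    (h2 : ∀ x, σ (σ x) = x) : Inst.Co K σ (P ⊔ centralizer (V : Set G)) V where
  e := m.e
  herm := m.herm
  mul := m.mul
  surj := m.surj
  ker := m.ker
  nor := sup_le hPV (centralizer_le_normalizer _)
  lift := fun A => by
    obtain ⟨g, hg, hA⟩ := m.lift A
    exact ⟨g, mem_sup_left hg, hA⟩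
  norm := fun g hg h hh A hA => by
    obtain ⟨p, hp, hpg⟩ := exists_mul hPV hg
    obtain ⟨p', hp', hph⟩ := exists_mul hPV hh
    obtain ⟨B, hB⟩ := m.norm p hp p' hp' A (fun v hv => by rw [← (hph v hv).1]; exact hA v hv)
    refine ⟨B, fun v hv => ?_⟩
    rw [← hB v hv]
    congr 1
    have h3 : p⁻¹ * v * p ∈ V := by
      have := (mem_normalizer_iff.mp (inv_mem (hPV hp)) v).mp hv
      rwa [inv_inv] at this
    have h4 : p' * (p⁻¹ * v * p) * p'⁻¹ ∈ V := (mem_normalizer_iff.mp (hPV hp') _).mp h3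
    calc g * h * g⁻¹ * v * (g * h * g⁻¹)⁻¹ = g * (h * (g⁻¹ * v * g) * h⁻¹) * g⁻¹ := by group
      _ = g * (p' * (p⁻¹ * v * p) * p'⁻¹) * g⁻¹ := by rw [(hpg v hv).2, (hph _ h3).1]
      _ = p * (p' * (p⁻¹ * v * p) * p'⁻¹) * p⁻¹ := (hpg _ h4).1
      _ = p * p' * p⁻¹ * v * (p * p' * p⁻¹)⁻¹ := by group
  inv := h2
  nt := by
    by_contra hcon
    push Not at hcon
    exact h1 (RingEquiv.ext hcon)

end co

variable [Finite G] {S : Sylow 2 G} {P : Subgroup G} {K : Type} [Field K] [Finite K] [CharP K 2]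
  {σ : K ≃+* K}

/-- The hypotheses of the application. -/
theorem sy (h : Cfg S P) (m : MinusQ K σ P (zl (S : Subgroup G) P)) (h1 : σ ≠ RingEquiv.refl K)
    (h2 : ∀ x, σ (σ x) = x) :
    Inst.Sy (co m (Cfg.P_norm_V S P) h1 h2) o2 (S : Subgroup G) (zc (S : Subgroup G)) where
  isO := isO
  C_M := le_sup_right
  S_M := h.S_le.trans le_sup_left
  Z_V := zc_le_zl _ _
  Z_S := fun z hz s hs => ((MinSimple.VModule.mem_zc.mp hz).2.1 s hs).symm
  Z_max := fun x hx hx2 hxc => MinSimple.VModule.mem_zc.mpr ⟨hx, fun b hb => (hxc b hb).symm, by rw [pow_two]; exact hx2⟩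
  char2N := fun R hR hRV hSR x hx hxc => by
    have hR2 : IsPGroup 2 R := h.V_isPGroup.to_le hRV
    have h3 : IsLoc (S : Subgroup G) (normalizer (R : Set G)) :=
      ⟨hSR, o2_ne_bot_of_le hR2 hR le_normalizer le_rfl⟩
    exact h3.char2 S h.ctx.char2 ⟨hx, mem_centralizer_iff.mpr fun y hy => (hxc y hy).symm⟩
  char2C := fun x hx hxc => h.char2C ⟨hx, mem_centralizer_iff.mpr fun y hy => (hxc y hy).symm⟩
  V_Qt := h.one.not_le

/-- **THEOREM BETA in the configuration of NO-1'.** -/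
theorem main (h : Cfg S P) (m : MinusQ K σ P (zl (S : Subgroup G) P)) (h1 : σ ≠ RingEquiv.refl K)
    (h2 : ∀ x, σ (σ x) = x) :
    ∃ d : Inst.Co K σ (P ⊔ centralizer (zl (S : Subgroup G) P : Set G)) (zl (S : Subgroup G) P),
      (S : Subgroup G) ≤ normalizer (d.R0 : Set G) ∧ zc (S : Subgroup G) ≤ d.R0 ∧
      Inst.Sy d o2 (S : Subgroup G) (zc (S : Subgroup G)) ∧ Inst.Hyp d o2 ∧
      Beta (P ⊔ centralizer (zl (S : Subgroup G) P : Set G)) (zl (S : Subgroup G) P)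
        (fun i : Inst.Pt d => i.1) (fun i => o2 (normalizer (i.1 : Set G))) := by
  obtain ⟨g, hg, h3, h4, h5⟩ := (sy h m h1 h2).main
  exact ⟨_, h3, h4, (sy h m h1 h2).mv hg, h5, h5.beta ((sy h m h1 h2).mv hg).meet⟩

/-- **`Q = O₂(N(R₀))` is semi-extraspecial with centre `R₀`.** -/
theorem result (h : Cfg S P) (m : MinusQ K σ P (zl (S : Subgroup G) P)) (h1 : σ ≠ RingEquiv.refl K)
    (h2 : ∀ x, σ (σ x) = x) :
    ∃ d : Inst.Co K σ (P ⊔ centralizer (zl (S : Subgroup G) P : Set G)) (zl (S : Subgroup G) P),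
      (S : Subgroup G) ≤ normalizer (d.R0 : Set G) ∧ zc (S : Subgroup G) ≤ d.R0 ∧
      Inst.Hyp d o2 ∧
      (o2 (normalizer (d.R0 : Set G)) ⊓ centralizer (o2 (normalizer (d.R0 : Set G)) : Set G) = d.R0 ∧
      (∀ x ∈ o2 (normalizer (d.R0 : Set G)), ∀ y ∈ o2 (normalizer (d.R0 : Set G)),
        x⁻¹ * y⁻¹ * x * y ∈ d.R0) ∧
      (∀ x ∈ o2 (normalizer (d.R0 : Set G)), x * x ∈ d.R0) ∧
      (∀ y ∈ o2 (normalizer (d.R0 : Set G)), y ∉ d.R0 → ∀ r ∈ d.R0,
        ∃ n ∈ o2 (normalizer (d.R0 : Set G)), n⁻¹ * y⁻¹ * n * y = r)) := by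
  obtain ⟨d, h3, h4, _, h5, h6⟩ := main h m h1 h2
  exact ⟨d, h3, h4, h5, (h6.result ⟨d.R0, 1, one_mem _, by rw [Inst.cj_one]⟩).2⟩

end Cfsg.Agent.Omega.NO1.Beta.Plug

end

section


/-!
# Type (γ) of the leaf N1 in the configuration `Cfg S P` (helper914)

`PlusQ.Plug.main` : there are coordinates `D : PlusQ F (P C(V)) V`, `V = V_P`, with `S` fixing `D.R0`, `Ω₁(Z(S)) ≤ D.R0`,
`Sy D S (zc S)`, `Cx D` and the structure `Grid`.
-/

set_option autoImplicit false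
set_option linter.unusedSectionVars false

namespace Cfsg.Agent.Omega.NO1.PlusQ

open Subgroup Cfsg Matrix Cfsg.Agent.ZN Cfsg.Agent.Omega.MinPar Cfsg.Agent.Omega.Frame
open Cfsg.Agent.Omega.NO1.Tens
open Cfsg.Agent.Omega.NO1.BetaPlus (Mv QQ)
open Cfsg.Agent.Omega.NO1.Gamma (Grid)
open Cfsg.Agent.Omega.NO1.Beta.Plug (exists_mul)
open Cfsg.Agent.MinSimple.VModule (zc_le_zl o2_isPGroup)

universe u

variable {G : Type u} [Group G] {F : Type} [Field F] {P V : Subgroup G}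

/-- The coordinates for `P C(V)`. -/
def ext (m : PlusQ F P V) (hPV : P ≤ normalizer (V : Set G)) : PlusQ F (P ⊔ centralizer (V : Set G)) V where
  e := m.e
  mul := m.mul
  surj := m.surj
  ker := m.ker
  lift := fun A B => by
    obtain ⟨g, hg, hA⟩ := m.lift A B
    exact ⟨g, mem_sup_left hg, hA⟩
  norm := fun g hg h hh A B hA => by
    obtain ⟨p, hp, hpg⟩ := exists_mul hPV hg
    obtain ⟨p', hp', hph⟩ := exists_mul hPV hh
    obtain ⟨A', B', hB⟩ := m.norm p hp p' hp' A B (fun v hv => by rw [← (hph v hv).1]; exact hA v hv)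
    refine ⟨A', B', fun v hv => ?_⟩
    rw [← hB v hv]
    congr 1
    have h3 : p⁻¹ * v * p ∈ V := by
      have := (mem_normalizer_iff.mp (inv_mem (hPV hp)) v).mp hv
      rwa [inv_inv] at this
    have h4 : p' * (p⁻¹ * v * p) * p'⁻¹ ∈ V := (mem_normalizer_iff.mp (hPV hp') _).mp h3
    calc g * h * g⁻¹ * v * (g * h * g⁻¹)⁻¹ = g * (h * (g⁻¹ * v * g) * h⁻¹) * g⁻¹ := by group
      _ = g * (p' * (p⁻¹ * v * p) * p'⁻¹) * g⁻¹ := by rw [(hpg v hv).2, (hph _ h3).1]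
      _ = p * (p' * (p⁻¹ * v * p) * p'⁻¹) * p⁻¹ := (hpg _ h4).1
      _ = p * p' * p⁻¹ * v * (p * p' * p⁻¹)⁻¹ := by group
  swap := by
    obtain ⟨s, hs, h⟩ := m.swap
    refine ⟨s, mem_sup_left hs, fun g hg A hA => ?_⟩
    obtain ⟨p', hp', hph⟩ := exists_mul hPV hg
    obtain ⟨B, hB⟩ := h p' hp' A (fun v hv => by rw [← (hph v hv).1]; exact hA v hv)
    refine ⟨B, fun v hv => ?_⟩
    rw [← hB v hv]
    congr 1
    have h3 : s⁻¹ * v * s ∈ V := by
      have := (mem_normalizer_iff.mp (inv_mem (hPV hs)) v).mp hv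
      rwa [inv_inv] at this
    calc s * g * s⁻¹ * v * (s * g * s⁻¹)⁻¹ = s * (g * (s⁻¹ * v * s) * g⁻¹) * s⁻¹ := by group
      _ = s * (p' * (s⁻¹ * v * s) * p'⁻¹) * s⁻¹ := by rw [(hph _ h3).1]
      _ = s * p' * s⁻¹ * v * (s * p' * s⁻¹)⁻¹ := by group

theorem exists_three [Finite F] (h4 : 4 ≤ Nat.card F) : ∃ t : F, t ≠ 0 ∧ t ≠ 1 := by
  classical
  have := Fintype.ofFinite F
  by_contra hcon
  push Not at hcon
  have h1 : (Finset.univ : Finset F) ⊆ {0, 1} := by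
    intro x _
    by_cases hx0 : x = 0
    · simp [hx0]
    · simp [hcon x hx0]
  have h2 := (Finset.card_le_card h1).trans Finset.card_le_two
  rw [Finset.card_univ, ← Nat.card_eq_fintype_card] at h2
  omega

variable [Finite G] {S : Sylow 2 G} [Finite F] [CharP F 2]

/-- The hypotheses of the application. -/
theorem sy (h : Cfg S P) (m : PlusQ F P (zl (S : Subgroup G) P)) (h4 : 4 ≤ Nat.card F)
    (hE : 4 ≤ (EE (S : Subgroup G) P).relIndex (zl (S : Subgroup G) P)) :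
    Sy (m.ext (Cfg.P_norm_V S P)) S (zc (S : Subgroup G)) where
  hN := fun g hg => by
    obtain ⟨p, hp, hpg⟩ := exists_mul (Cfg.P_norm_V S P) hg
    refine Mv.of_le (fun a ha => ?_) le_rfl
    rw [(hpg a ha).1]
    exact (mem_normalizer_iff.1 (Cfg.P_norm_V S P hp) a).1 ha
  C_N := le_sup_right
  S_N := h.S_le.trans le_sup_left
  Z_V := zc_le_zl _ _
  Z_S := fun z hz s hs => ((MinSimple.VModule.mem_zc.mp hz).2.1 s hs).symm
  Z_max := fun x hx hx2 hxc => MinSimple.VModule.mem_zc.mpr ⟨hx, fun b hb => (hxc b hb).symm, by rw [pow_two]; exact hx2⟩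
  char2N := fun R hR hRV hSR => by
    have hR2 : IsPGroup 2 R := h.V_isPGroup.to_le hRV
    have h3 : IsLoc (S : Subgroup G) (normalizer (R : Set G)) :=
      ⟨hSR, o2_ne_bot_of_le hR2 hR le_normalizer le_rfl⟩
    exact h3.char2 S h.ctx.char2
  char2C := h.char2C
  V_Qt := h.one.not_le
  four := hE
  three := exists_three h4

/-- **THEOREM BETA for type (γ) in the configuration of NO-1'.** -/
theorem main (h : Cfg S P) (m : PlusQ F P (zl (S : Subgroup G) P)) (h4 : 4 ≤ Nat.card F)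
    (hE : 4 ≤ (EE (S : Subgroup G) P).relIndex (zl (S : Subgroup G) P)) :
    ∃ D : PlusQ F (P ⊔ centralizer (zl (S : Subgroup G) P : Set G)) (zl (S : Subgroup G) P),
      Sy D S (zc (S : Subgroup G)) ∧ (∀ s ∈ (S : Subgroup G), Mv s D.R0 D.R0) ∧ zc (S : Subgroup G) ≤ D.R0 ∧
      Cx D ∧ Grid (zl (S : Subgroup G) P) (fun i j => D.R i j) (fun i j => QQ (D.R i j)) := by
  obtain ⟨D, hD, hR⟩ := (sy h m h4 hE).exists_fix
  exact ⟨D, hD, hR, hD.Z_R0 hR, hD.cx hR, (hD.cx hR).grid hD.meet⟩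

end Cfsg.Agent.Omega.NO1.PlusQ

end

end
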